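import Cfsg.Agent.Lib.Fusion.Residual
import Cfsg.Agent.Lib.CFun.IndexP
import Cfsg.Agent.Lib.Coprime.Core
import Cfsg.Agent.Lib.LocalStructure.Basic
import Cfsg.Agent.Lib.Invol.StronglyEmbedded
import Cfsg.Prelude.Def_CaseTheorems

/-!
# Properties passing to normal subgroups
-/

set_option autoImplicit false
set_option linter.unusedSectionVars false
set_option linter.style.haveILetI false

open Subgroup

namespace CfsgLib.ZNGroup

universe u

variable {G : Type u} [Group G] [Finite G]

/-- Characteristic two is inherited by a group embedded as a normal subgroup. -/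
theorem isOfCharacteristicTwo_of_injective {N : Type u} [Group N] [Finite N] (f : N →* G)
    (hf : Function.Injective f) (hn : f.range.Normal) (h : Cfsg.IsOfCharacteristicTwo G) :
    Cfsg.IsOfCharacteristicTwo N := by
  haveI : Fact (Nat.Prime 2) := ⟨Nat.prime_two⟩
  haveI : (Cfsg.pCore 2 G).Normal := CfsgLib.Coprime.pCore_normal' 2
  haveI : (Cfsg.pCore 2 N).Normal := CfsgLib.Coprime.pCore_normal' 2
  haveI : ((Cfsg.pCore 2 G).comap f).Normal := (inferInstance : (Cfsg.pCore 2 G).Normal).comap f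
  set P := Cfsg.pCore 2 G with hP
  set C := centralizer (Cfsg.pCore 2 N : Set N) with hC
  haveI : C.Normal := Subgroup.normal_centralizer
  have hPN : P.comap f ≤ Cfsg.pCore 2 N :=
    CfsgLib.Coprime.le_pCore ((CfsgLib.Coprime.pCore_isPGroup 2).comap_of_injective f hf)
  have hfix : ∀ c ∈ C, Odd (orderOf c) → c = 1 := by
    intro c hc hco
    have hm : f c ∈ centralizer (P : Set G) := mem_centralizer_iff.2 fun p hp => by
      set q := f c * p * (f c)⁻¹ * p⁻¹ with hq
      have hqP : q ∈ P := mul_mem ((inferInstance : P.Normal).conj_mem p hp _) (inv_mem hp)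
      have hqN : q ∈ f.range := by
        rw [hq, show f c * p * (f c)⁻¹ * p⁻¹ = f c * (p * (f c)⁻¹ * p⁻¹) by group]
        exact mul_mem ⟨c, rfl⟩ (hn.conj_mem _ (inv_mem ⟨c, rfl⟩) p)
      have hcq : f c * q * (f c)⁻¹ = q := by
        obtain ⟨y, hy⟩ := hqN
        have : y * c = c * y := mem_centralizer_iff.1 hc y (hPN (show f y ∈ P from hy ▸ hqP))
        rw [← hy, ← map_inv, ← map_mul, ← map_mul, ← this, mul_inv_cancel_right]
      have hit : ∀ i : ℕ, (f c) ^ i * p * ((f c) ^ i)⁻¹ = q ^ i * p := by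
        intro i
        induction i with
        | zero => simp
        | succ i ih =>
          have hci : (f c) ^ i * q * ((f c) ^ i)⁻¹ = q := by
            have hcq' : Commute (f c) q := mul_inv_eq_iff_eq_mul.1 hcq
            rw [(hcq'.pow_left i).eq, mul_inv_cancel_right]
          calc (f c) ^ (i + 1) * p * ((f c) ^ (i + 1))⁻¹ = (f c) ^ i * (q * p) * ((f c) ^ i)⁻¹ := by rw [hq]; group
            _ = ((f c) ^ i * q * ((f c) ^ i)⁻¹) * ((f c) ^ i * p * ((f c) ^ i)⁻¹) := by group
            _ = q ^ (i + 1) * p := by rw [hci, ih, ← mul_assoc, ← pow_succ']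
      have h1 := hit (orderOf c)
      rw [← map_pow, pow_orderOf_eq_one, map_one, one_mul, inv_one, mul_one] at h1
      obtain ⟨j, hj⟩ := (CfsgLib.Coprime.pCore_isPGroup (G := G) 2) ⟨q, hqP⟩
      have hqj : q ^ 2 ^ j = 1 := by simpa using congrArg Subtype.val hj
      have hq1 : q = 1 := orderOf_eq_one_iff.1 (Nat.eq_one_of_dvd_coprimes
        ((Nat.coprime_two_right.2 hco).pow_right j) (orderOf_dvd_of_pow_eq_one (mul_eq_right.1 h1.symm))
        (orderOf_dvd_of_pow_eq_one hqj))
      rw [hq, mul_inv_eq_one, mul_inv_eq_iff_eq_mul] at hq1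
      exact hq1.symm
    obtain ⟨j, hj⟩ := (CfsgLib.Coprime.pCore_isPGroup (G := G) 2) ⟨f c, h hm⟩
    have hcj : c ^ 2 ^ j = 1 := hf (by rw [map_pow, map_one]; simpa using congrArg Subtype.val hj)
    exact orderOf_eq_one_iff.1 (Nat.eq_one_of_dvd_coprimes ((Nat.coprime_two_right.2 hco).pow_right j) dvd_rfl
      (orderOf_dvd_of_pow_eq_one hcj))
  refine CfsgLib.Coprime.le_pCore fun x => ?_
  obtain ⟨a, b, hab, ha, hb, ⟨r, har⟩, hbo⟩ := CfsgLib.CFun.exists_parts (p := 2) (x : N)
  have hb1 := hfix b (zpowers_le.2 x.2 hb) (Nat.coprime_two_right.1 hbo)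
  exact ⟨r, Subtype.ext (by rw [coe_pow, coe_one, hab, hb1, mul_one, har])⟩

/-- Characteristic two type is inherited by normal subgroups of even order. -/
theorem isCharacteristicTwoType_of_normal (h : Cfsg.IsCharacteristicTwoType G) (K : Subgroup G) [K.Normal]
    (hev : Even (Nat.card K)) : Cfsg.IsCharacteristicTwoType ↥K := by
  refine ⟨hev, fun T hT hT1 => ?_⟩
  set T' := T.map K.subtype
  have hT'1 : T' ≠ ⊥ := fun e => hT1 ((Subgroup.map_eq_bot_iff_of_injective _ (subtype_injective K)).1 e)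
  have hmem : ∀ n : ↥(normalizer (T : Set ↥K)), ((n : ↥K) : G) ∈ normalizer (T' : Set G) := fun n =>
    le_normalizer_map K.subtype ⟨(n : ↥K), n.2, rfl⟩
  let f : ↥(normalizer (T : Set ↥K)) →* ↥(normalizer (T' : Set G)) :=
    { toFun := fun n => ⟨((n : ↥K) : G), hmem n⟩
      map_one' := rfl
      map_mul' := fun _ _ => rfl }
  refine isOfCharacteristicTwo_of_injective f (fun a b hab => Subtype.ext (Subtype.ext (congrArg (fun w : ↥(normalizer (T' : Set G)) => (w : G)) hab :))) ?_
    (h.2 T' (hT.map _) hT'1)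
  have hr : f.range = K.subgroupOf (normalizer (T' : Set G)) := by
    ext x
    constructor
    · rintro ⟨n, rfl⟩; exact (n : ↥K).2
    · intro hx
      refine ⟨⟨⟨x, hx⟩, mem_normalizer_iff.2 fun y => ?_⟩, rfl⟩
      have h1 := mem_normalizer_iff.1 x.2 (y : G)
      constructor
      · intro hy
        obtain ⟨y', hy', e⟩ := h1.1 ⟨y, hy, rfl⟩
        rwa [show (⟨x, hx⟩ : ↥K) * y * ⟨x, hx⟩⁻¹ = y' from Subtype.ext e.symm]
      · intro hy
        obtain ⟨y', hy', e⟩ := h1.2 ⟨_, hy, rfl⟩
        rwa [show y = y' from Subtype.ext e.symm]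
  rw [hr]
  exact (inferInstance : K.Normal).comap _

/-- A strongly embedded subgroup meets a normal subgroup of even order in a strongly embedded subgroup. -/
theorem stronglyEmbedded_descend {M : Subgroup G} (hM : Cfsg.IsStronglyEmbedded M) (K : Subgroup G) [K.Normal]
    (hev : Even (Nat.card K)) : Cfsg.IsStronglyEmbedded (M.subgroupOf K) := by
  haveI : Fact (Nat.Prime 2) := ⟨Nat.prime_two⟩
  have hnle : ¬ K ≤ M := fun hle => by
    obtain ⟨g, hg⟩ : ∃ g : G, g ∉ M := by
      by_contra hno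
      push Not at hno
      exact hM.1 ((eq_top_iff' M).2 hno)
    obtain ⟨t, ht, hto⟩ := CfsgLib.Invol.exists_invol_mem hev
    exact hg (CfsgLib.Invol.mem_of_conj_mem hM (hle ht) hto (hle ((inferInstance : K.Normal).conj_mem t ht g)))
  have htop : M.subgroupOf K ≠ ⊤ := fun e => hnle (subgroupOf_eq_top.1 e)
  -- an involution of `K` in `M`
  obtain ⟨t, htK, hto⟩ := CfsgLib.Invol.exists_invol_mem hev
  obtain ⟨s, hsM, hso⟩ := CfsgLib.Invol.exists_invol_mem hM.2.1
  have hevK : Even (Nat.card (M.subgroupOf K)) := by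
    obtain ⟨S⟩ : Nonempty (Sylow 2 ↥M) := inferInstance
    obtain ⟨P, hP⟩ := (S.2.map M.subtype).exists_le_sylow
    have hPM : (P : Subgroup G) ≤ M := by
      haveI := P.2.isNilpotent
      intro x hx
      by_contra hxM
      have hsub : ¬ (P : Subgroup G) ≤ M := fun hle => hxM (hle hx)
      have hSne : (S : Subgroup ↥M) ≠ ⊥ := S.ne_bot_of_dvd_card hM.2.1.two_dvd
      have hlt : (M ⊓ P).subgroupOf (P : Subgroup G) ≠ ⊤ := fun e =>
        hsub ((subgroupOf_eq_top.1 e).trans inf_le_left)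
      obtain ⟨y, hyN, hyM⟩ := SetLike.exists_of_lt (Group.normalizerCondition_of_isNilpotent
        (G := (P : Subgroup G)) _ (lt_top_iff_ne_top.2 hlt))
      refine hyM (mem_inf.2 ⟨?_, y.2⟩)
      obtain ⟨v, hv, hv1⟩ := (S : Subgroup ↥M).bot_or_exists_ne_one.resolve_left hSne
      obtain ⟨u, hu, huo⟩ : ∃ u ∈ (S : Subgroup ↥M), orderOf u = 2 := by
        obtain ⟨k, hk⟩ := S.2.exists_card_eq
        rcases k with _ | k
        · rw [pow_zero] at hk
          exact absurd (eq_bot_of_card_eq _ hk) hSne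
        · obtain ⟨u, hu⟩ := exists_prime_orderOf_dvd_card' (G := (S : Subgroup ↥M)) 2 (hk ▸ dvd_pow_self 2 (by omega))
          exact ⟨u, u.2, by rw [Subgroup.orderOf_coe]; exact hu⟩
      have huP : (u : G) ∈ (P : Subgroup G) := hP ⟨u, hu, rfl⟩
      have h1 := (mem_normalizer_iff.1 hyN ⟨u, huP⟩).1 (mem_inf.2 ⟨u.2, huP⟩)
      exact CfsgLib.Invol.mem_of_conj_mem hM u.2 (by rw [Subgroup.orderOf_coe]; exact huo) (mem_inf.1 h1).1
    obtain ⟨g, hg⟩ := CfsgLib.Invol.exists_conj_le_sylow (Q := zpowers t)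
      (IsPGroup.of_card (n := 1) (by rw [Nat.card_zpowers, hto, pow_one])) P
    have hx : g * t * g⁻¹ ∈ M := hPM (hg t (mem_zpowers t))
    rw [even_iff_two_dvd, ← CfsgLib.Invol.invol_conj hto g]
    have hxK : g * t * g⁻¹ ∈ K := (inferInstance : K.Normal).conj_mem t htK g
    have hdvd := Subgroup.orderOf_dvd_natCard (M.subgroupOf K) (show (⟨_, hxK⟩ : K) ∈ M.subgroupOf K from hx)
    rwa [← Subgroup.orderOf_coe] at hdvd
  refine (CfsgLib.Invol.stronglyEmbedded_iff htop hevK).2 fun x hx hxo g hg => ?_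
  exact CfsgLib.Invol.mem_of_conj_mem hM (t := (x : G)) (g := (g : G)) hx (by rw [Subgroup.orderOf_coe]; exact hxo) hg

theorem pResidual_eq_odd : Cfsg.pResidual 2 G = closure {g : G | Odd (orderOf g)} := by
  unfold Cfsg.pResidual
  congr 1
  ext g
  exact Nat.coprime_two_right

/-- The residual of the residual is itself. -/
theorem pResidual_self : Cfsg.pResidual 2 ↥(Cfsg.pResidual 2 G) = ⊤ := by
  refine (eq_top_iff' _).2 ?_
  rintro ⟨x, hx⟩
  induction hx using Subgroup.closure_induction with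
  | mem y hy => exact CfsgLib.Fusion.mem_pResidual (by rw [← Subgroup.orderOf_coe]; exact hy)
  | one => exact one_mem (Cfsg.pResidual 2 ↥(Cfsg.pResidual 2 G))
  | mul a b _ _ ha hb => exact mul_mem ha hb
  | inv a _ ha => exact inv_mem ha

theorem no_index_two_of_residual (h : Cfsg.pResidual 2 G = ⊤) (M : Subgroup G) (hM : M.Normal) : M.index ≠ 2 := by
  intro hi
  haveI : Fact (Nat.Prime 2) := ⟨Nat.prime_two⟩
  have := CfsgLib.Fusion.pResidual_le_of_isPGroup_quotient (p := 2) M
    (IsPGroup.of_card (n := 1) (by rw [← Subgroup.index_eq_card, hi, pow_one]))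
  rw [h, top_le_iff] at this
  rw [this, index_top] at hi
  omega

end CfsgLib.ZNGroup
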