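import Cfsg.Agent.Lib.Invol.ZStar
import Cfsg.Agent.Lib.Invol.StronglyEmbedded
import Cfsg.Agent.Lib.Fusion.Tate
import Cfsg.Agent.Lib.Invol.CharTwo
import Cfsg.Agent.Lib.Coprime.Core
import Cfsg.Agent.Lib.PGroup.Basic
import Cfsg.Prelude.Def_CaseTheorems

/-!
# An involution of the centre of a Sylow subgroup with two-closed centralizer: basic facts
-/

set_option autoImplicit false
set_option linter.unusedSectionVars false
set_option linter.style.haveILetI false

open Subgroup

namespace CfsgLib.ZNGroup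

universe u

variable {X : Type u} [Group X] [Finite X]

/-- A central involution `z` of the Sylow subgroup `R` whose centralizer normalizes `R`, in a group
without subgroup of index two and with trivial cores. -/
structure ClosedCentral (R : Sylow 2 X) (z : X) : Prop where
  ord : orderOf z = 2
  mem : z ∈ (R : Subgroup X)
  central : ∀ r ∈ (R : Subgroup X), r * z = z * r
  closed : centralizer ({z} : Set X) ≤ normalizer ((R : Subgroup X) : Set X)
  noIndexTwo : ∀ M : Subgroup X, M.Normal → M.index ≠ 2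
  oddCore : Cfsg.pPrimeCore 2 X = ⊥
  twoCore : Cfsg.pCore 2 X = ⊥

/-- A four group is listed by two of its non-trivial elements. -/
theorem four_mem_list {U : Subgroup X} (h4 : Nat.card U = 4) {z u : X} (hz : z ∈ U) (hu : u ∈ U)
    (hz1 : z ≠ 1) (hu1 : u ≠ 1) (hzu : z ≠ u) (hzu1 : z * u ≠ 1) {x : X} (hx : x ∈ U) :
    x = 1 ∨ x = z ∨ x = u ∨ x = z * u := by
  classical
  have e1 : z * u ≠ z := fun h => hu1 (mul_eq_left.1 h)
  have e2 : z * u ≠ u := fun h => hz1 (mul_eq_right.1 h)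
  have hsub : ({1, z, u, z * u} : Set X) ⊆ (U : Set X) := by
    rintro _ (rfl | rfl | rfl | rfl)
    exacts [one_mem U, hz, hu, mul_mem hz hu]
  have he : ({1, z, u, z * u} : Set X) = (U : Set X) := by
    refine Set.eq_of_subset_of_ncard_le hsub ?_ (Set.toFinite _)
    rw [show (U : Set X).ncard = 4 from h4,
      Set.ncard_insert_of_notMem (by simp [Ne.symm hz1, Ne.symm hu1, Ne.symm hzu1]),
      Set.ncard_insert_of_notMem (by simp [hzu, Ne.symm e1]),
      Set.ncard_insert_of_notMem (by simp [Ne.symm e2]), Set.ncard_singleton]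
  have h1 : x ∈ ({1, z, u, z * u} : Set X) := he.symm ▸ hx
  simpa using h1

namespace ClosedCentral

variable {R : Sylow 2 X} {z : X} (h : ClosedCentral R z)
include h

theorem ne_one : z ≠ 1 := fun e => by
  have := h.ord
  rw [e, orderOf_one] at this
  omega

theorem sq : z * z = 1 := by rw [← pow_two, ← h.ord, pow_orderOf_eq_one]

theorem commute {r : X} (hr : r ∈ (R : Subgroup X)) : Commute r z := h.central r hr

theorem mem_cent {r : X} (hr : r ∈ (R : Subgroup X)) : r ∈ centralizer ({z} : Set X) :=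
  mem_centralizer_singleton_iff.2 (h.central r hr)

/-- A two-subgroup centralizing `z` lies in `R`. -/
theorem le_sylow {T : Subgroup X} (hT : IsPGroup 2 T) (hTz : ∀ t ∈ T, t * z = z * t) :
    T ≤ (R : Subgroup X) := by
  haveI : Fact (Nat.Prime 2) := ⟨Nat.prime_two⟩
  intro t ht
  have h1 : T ⊓ normalizer ((R : Subgroup X) : Set X) = T ⊓ (R : Subgroup X) := hT.inf_normalizer_sylow R
  have h2 : t ∈ T ⊓ normalizer ((R : Subgroup X) : Set X) :=
    ⟨ht, h.closed (mem_centralizer_singleton_iff.2 (hTz t ht))⟩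
  rw [h1] at h2
  exact h2.2

/-- A conjugate of `z` in `R` different from `z`. -/
theorem exists_fused : ∃ g : X, g * z * g⁻¹ ∈ (R : Subgroup X) ∧ g * z * g⁻¹ ≠ z := by
  haveI : Fact (Nat.Prime 2) := ⟨Nat.prime_two⟩
  by_contra hno
  push Not at hno
  have hc := CfsgLib.Invol.eq_of_zcentral_bot
    (CfsgLib.Invol.zstar_of_weakly_closed R h.ord fun g hg => hno g hg) h.oddCore
  haveI : (zpowers z).Normal := ⟨fun m hm g => by
    have h1 : m ∈ center X := zpowers_le.2 hc hm
    rw [mem_center_iff.1 h1 g, mul_inv_cancel_right]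
    exact hm⟩
  have h2 : zpowers z ≤ Cfsg.pCore 2 X :=
    CfsgLib.Coprime.le_pCore (IsPGroup.of_card (n := 1) (by rw [Nat.card_zpowers, h.ord, pow_one]))
  rw [h.twoCore, le_bot_iff, zpowers_eq_bot] at h2
  exact h.ne_one h2

/-- Thompson transfer: an involution outside an index two subgroup of `R` is fused into it. -/
theorem transfer {Q : Subgroup X} (hQ : Q ≤ (R : Subgroup X)) (hi : Q.relIndex (R : Subgroup X) = 2)
    {u : X} (hu : u * u = 1) : ∃ g : X, g * u * g⁻¹ ∈ Q := by
  by_contra hno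
  push Not at hno
  obtain ⟨M, hM, hM2, -⟩ := CfsgLib.Fusion.thompson_transfer R hQ hi (by rw [pow_two, hu]) hno
  exact h.noIndexTwo M hM hM2

/-- A conjugation moving a conjugate of `z` to `z` sends the centralizer in `R` into `R`. -/
theorem conj_cent {t g : X} (hg : g * t * g⁻¹ = z) {c : X} (hcR : c ∈ (R : Subgroup X))
    (hct : c * t = t * c) : g * c * g⁻¹ ∈ (R : Subgroup X) := by
  haveI : Fact (Nat.Prime 2) := ⟨Nat.prime_two⟩
  refine h.le_sylow (T := (zpowers c).map (MulAut.conj g).toMonoidHom)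
    ((R.2.to_le (zpowers_le.2 hcR)).map _) ?_ ⟨c, mem_zpowers c, rfl⟩
  rintro _ ⟨d, hd, rfl⟩
  obtain ⟨i, rfl⟩ := mem_zpowers_iff.1 hd
  show g * c ^ i * g⁻¹ * z = z * (g * c ^ i * g⁻¹)
  rw [← hg]
  calc g * c ^ i * g⁻¹ * (g * t * g⁻¹) = g * (c ^ i * t) * g⁻¹ := by group
    _ = g * (t * c ^ i) * g⁻¹ := by rw [((show Commute c t from hct).zpow_left i).eq]
    _ = _ := by group

end ClosedCentral

/-- A criterion for strong embedding. -/
theorem stronglyEmbedded_of_fused {R : Sylow 2 X} {z : X} (hz : orderOf z = 2) (hzR : z ∈ (R : Subgroup X))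
    {M : Subgroup X} (hM : M ≠ ⊤) (hRM : (R : Subgroup X) ≤ M)
    (hCM : centralizer ({z} : Set X) ≤ M)
    (hfus : ∀ t ∈ (R : Subgroup X), orderOf t = 2 → ∃ m ∈ M, m * t * m⁻¹ = z) :
    Cfsg.IsStronglyEmbedded M := by
  haveI : Fact (Nat.Prime 2) := ⟨Nat.prime_two⟩
  have heven : Even (Nat.card M) := by
    rw [even_iff_two_dvd, ← hz]
    exact Subgroup.orderOf_dvd_natCard _ (hRM hzR)
  have key : ∀ x ∈ M, orderOf x = 2 → ∃ m ∈ M, m * x * m⁻¹ = z := by
    intro x hx hx2
    obtain ⟨m, hm⟩ := CfsgLib.Invol.exists_conj_le_sylow (Q := zpowers (⟨x, hx⟩ : M))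
      (IsPGroup.of_card (n := 1) (by rw [Nat.card_zpowers, ← Subgroup.orderOf_coe, hx2, pow_one]))
      (R.subtype hRM)
    have hmR : (m : X) * x * (m : X)⁻¹ ∈ (R : Subgroup X) := hm _ (mem_zpowers _)
    obtain ⟨n, hn, e⟩ := hfus _ hmR (CfsgLib.Invol.invol_conj hx2 _)
    exact ⟨n * m, mul_mem hn m.2, by rw [← e]; group⟩
  refine (CfsgLib.Invol.stronglyEmbedded_iff hM heven).2 fun t ht ht2 g hg => ?_
  obtain ⟨m, hm, e⟩ := key t ht ht2
  obtain ⟨n, hn, e'⟩ := key _ hg (CfsgLib.Invol.invol_conj ht2 g)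
  have hc : n * g * m⁻¹ ∈ M := hCM (mem_centralizer_singleton_iff.2 (by
    conv_lhs => rw [← e]
    conv_rhs => rw [← e']
    group))
  have := mul_mem (mul_mem (inv_mem hn) hc) hm
  rwa [show n⁻¹ * (n * g * m⁻¹) * m = g by group] at this

end CfsgLib.ZNGroup
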