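import Cfsg.Agent.Lib.Invol.TransferPower
import Mathlib.GroupTheory.Perm.Cycle.Type
import Mathlib.GroupTheory.SpecificGroups.Cyclic

/-!
# Two transfer tests for an involution to lie outside `O²(G)`
-/

set_option autoImplicit false
set_option linter.unusedSectionVars false
set_option linter.style.haveILetI false

open Subgroup

namespace CfsgLib.ZNGroup

universe u

variable {G : Type u} [Group G] [Finite G]

/-- An involution whose number of fixed points on the cosets of an index `2m` subgroup (`m` odd) is divisible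
by four lies outside a normal subgroup of index two. -/
theorem not_mem_of_four_dvd_fixed (U : Subgroup G) {m : ℕ} (hm : Odd m) (hU : U.index = 2 * m) {u : G}
    (hu : u * u = 1) (h4 : 4 ∣ Nat.card {q : G ⧸ U // u • q = q}) :
    ∃ f : G →* ℤˣ, f u ≠ 1 := by
  classical
  letI : Fintype (G ⧸ U) := Fintype.ofFinite _
  refine ⟨(Equiv.Perm.sign).comp (MulAction.toPermHom G (G ⧸ U)), ?_⟩
  show Equiv.Perm.sign (MulAction.toPermHom G (G ⧸ U) u) ≠ 1
  have hsq : (MulAction.toPermHom G (G ⧸ U) u) ^ 2 = 1 := by rw [← map_pow, pow_two, hu, map_one]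
  rw [Equiv.Perm.sign_of_pow_two_eq_one hsq]
  obtain ⟨k, hk⟩ := h4
  have hfix : Fintype.card (Function.fixedPoints (MulAction.toPermHom G (G ⧸ U) u)) = 4 * k := by
    rw [← hk, ← Nat.card_eq_fintype_card]
    exact Nat.card_congr (Equiv.subtypeEquivRight fun q => Iff.rfl)
  have hcard : Fintype.card (G ⧸ U) = 2 * m := by
    rw [← Nat.card_eq_fintype_card, ← Subgroup.index_eq_card, hU]
  have hle : 4 * k ≤ 2 * m := by
    rw [← hfix, ← hcard]
    exact Fintype.card_subtype_le _
  rw [hfix, hcard]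
  have hodd : Odd ((2 * m - 4 * k) / 2) := by
    obtain ⟨r, rfl⟩ := hm
    exact ⟨r - k, by omega⟩
  rw [hodd.neg_one_pow]
  decide

/-- Homomorphisms into groups of `2`-power order kill the elements of odd order. -/
theorem map_eq_one_of_odd {A : Type*} [Group A] (hA : ∀ a : A, ∃ k : ℕ, a ^ 2 ^ k = 1) (f : G →* A) {g : G}
    (hg : Odd (orderOf g)) : f g = 1 := by
  obtain ⟨k, hk⟩ := hA (f g)
  refine orderOf_eq_one_iff.1 (Nat.eq_one_of_dvd_coprimes (Nat.Coprime.pow_left k ?_)
    (orderOf_dvd_of_pow_eq_one hk) (orderOf_map_dvd f g))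
  exact Nat.coprime_two_left.2 hg

theorem not_mem_closure_odd {A : Type*} [Group A] (hA : ∀ a : A, ∃ k : ℕ, a ^ 2 ^ k = 1) (f : G →* A) {u : G}
    (hu : f u ≠ 1) : u ∉ closure {g : G | Odd (orderOf g)} := fun hmem => by
  refine hu ?_
  have : closure {g : G | Odd (orderOf g)} ≤ f.ker :=
    (closure_le _).2 fun g hg => map_eq_one_of_odd hA f hg
  exact this hmem

/-- Transfer test: all conjugates of the involution `u` in the Sylow subgroup lie outside a normal subgroup
with abelian quotient and have the same image there. -/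
theorem not_mem_closure_of_transfer (S : Sylow 2 G) (D : Subgroup G)
    [hD : (D.subgroupOf (S : Subgroup G)).Normal]
    (hab : ∀ x ∈ (S : Subgroup G), ∀ y ∈ (S : Subgroup G), x * y * x⁻¹ * y⁻¹ ∈ D)
    {u : G} (huS : u ∈ (S : Subgroup G)) (hu : u * u = 1) (huD : u ∉ D)
    (hkey : ∀ g : G, g⁻¹ * u * g ∈ (S : Subgroup G) → (g⁻¹ * u * g) * u⁻¹ ∈ D) :
    u ∉ closure {g : G | Odd (orderOf g)} := by
  classical
  set S' := (S : Subgroup G)
  set N := D.subgroupOf S'
  letI : CommGroup (S' ⧸ N) :=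
    { QuotientGroup.Quotient.group N with
      mul_comm := by
        intro a b
        induction a using QuotientGroup.induction_on with | _ x => ?_
        induction b using QuotientGroup.induction_on with | _ y => ?_
        rw [← QuotientGroup.mk_mul, ← QuotientGroup.mk_mul, QuotientGroup.eq, mem_subgroupOf]
        push_cast
        have h := hab (y : G)⁻¹ (inv_mem y.2) (x : G)⁻¹ (inv_mem x.2)
        simpa [mul_assoc] using h }
  let φ : S' →* S' ⧸ N := QuotientGroup.mk' _
  have hA : ∀ a : S' ⧸ N, ∃ k : ℕ, a ^ 2 ^ k = 1 := fun a => (S.2.to_quotient N) a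
  refine not_mem_closure_odd hA (MonoidHom.transfer φ) ?_
  have hu2 : u ^ 2 = 1 := by rw [pow_two, hu]
  have hV : MonoidHom.transfer φ u = φ ⟨u, huS⟩ ^ S'.index := by
    refine CfsgLib.Invol.transfer_eq_pow_index φ u huS fun k g₀ hk => ?_
    rw [← map_pow]
    rcases Nat.even_or_odd k with he | ho
    · obtain ⟨j, rfl⟩ := he
      have e : u ^ (j + j) = 1 := by rw [← two_mul, pow_mul, hu2, one_pow]
      refine congrArg φ (Subtype.ext ?_)
      push_cast
      rw [e, mul_one, inv_mul_cancel]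
    · obtain ⟨j, rfl⟩ := ho
      have e : u ^ (2 * j + 1) = u := by rw [pow_succ, pow_mul, hu2, one_pow, one_mul]
      refine (QuotientGroup.eq.2 ?_).symm
      rw [mem_subgroupOf]
      push_cast
      rw [e] at hk ⊢
      have h1 := hkey g₀ hk
      have h2 := hD.conj_mem ⟨_, (show g₀⁻¹ * u * g₀ * u⁻¹ ∈ S' from mul_mem hk (inv_mem huS))⟩
        (mem_subgroupOf.2 h1) (⟨u, huS⟩ : S')⁻¹
      rw [mem_subgroupOf] at h2
      push_cast at h2
      simpa [mul_assoc] using h2
  rw [hV]
  have hne : φ ⟨u, huS⟩ ≠ 1 := fun h => huD (mem_subgroupOf.1 ((QuotientGroup.eq_one_iff _).1 h))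
  have hodd : Odd S'.index := Nat.not_even_iff_odd.1 fun he => S.not_dvd_index he.two_dvd
  obtain ⟨j, hj⟩ := hodd
  have hsq : φ ⟨u, huS⟩ ^ 2 = 1 := by
    rw [← map_pow, show (⟨u, huS⟩ : S') ^ 2 = 1 from Subtype.ext (by push_cast; exact hu2), map_one]
  rwa [hj, pow_succ, pow_mul, hsq, one_pow, one_mul]

end CfsgLib.ZNGroup
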