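import Cfsg.Agent.Lib.ZNGroup.Pair
import Cfsg.Agent.Lib.ZNGroup.Transfer
import Cfsg.Agent.Lib.Fusion.Transfer

/-!
# The central involution of `S₄ × 2` is outside the subgroup generated by the elements of odd order
-/

set_option autoImplicit false
set_option linter.unusedSectionVars false
set_option linter.style.haveILetI false

open Subgroup
open scoped commutatorElement Pointwise

namespace CfsgLib.ZNGroup

universe u

variable {G : Type u} [Group G] [Finite G]

/-- A subgroup inside the union of two subgroups lies in one of them. -/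
theorem le_or_le_of_subset_union {X A B : Subgroup G} (h : ∀ x ∈ X, x ∈ A ∨ x ∈ B) : X ≤ A ∨ X ≤ B := by
  by_contra hne
  push Not at hne
  obtain ⟨a, ha, haA⟩ := SetLike.not_le_iff_exists.1 hne.1
  obtain ⟨b, hb, hbB⟩ := SetLike.not_le_iff_exists.1 hne.2
  have haB := (h a ha).resolve_left haA
  have hbA := (h b hb).resolve_right hbB
  rcases h (a * b) (mul_mem ha hb) with h1 | h1
  · exact haA (by simpa using mul_mem h1 (inv_mem hbA))
  · exact hbB (by simpa using mul_mem (inv_mem haB) h1)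

namespace Pair

variable {P₁ P₂ T : Subgroup G} (p : Pair P₁ P₂ T)

theorem c_mem_T : p.h₁.c ∈ T := p.E_le_T p.h₁.c_mem_E

theorem c_central {g : G} (hg : g ∈ P₁) : p.h₁.c * g = g * p.h₁.c := by
  obtain ⟨x, rfl | rfl⟩ := p.h₁.cover g hg
  · exact (p.h₁.c_comm x).eq
  · rw [← mul_assoc, (p.h₁.c_comm x).eq]

theorem c_mem_E₂ : p.h₁.c ∈ p.h₂.E :=
  mem_inf.2 ⟨p.syl₂.1 p.c_mem_T, mem_centralizer_iff.2 fun w hw =>
    (p.c_central (p.syl₁.1 (p.swap.V_le_T hw))).symm⟩

/-- The intersection of the two four-groups is not trivial and is central in `T`. -/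
theorem exists_z : ∃ z ∈ p.h₁.V, z ∈ p.h₂.V ∧ z ≠ 1 ∧ (∃ v ∈ p.h₁.V, ∃ w ∈ p.h₂.V, z = ⁅v, w⁆) ∧
    ∀ t ∈ T, t * z = z * t := by
  obtain ⟨v, hv, w, hw, hne⟩ := p.exists_noncomm
  obtain ⟨z, hz⟩ : ∃ z, z = ⁅v, w⁆ := ⟨_, rfl⟩
  have hz1 : z ∈ p.h₁.V := by
    rw [hz, show ⁅v, w⁆ = v * (w * v⁻¹ * w⁻¹) by simp only [commutatorElement_def, mul_assoc]]
    exact mul_mem hv (p.h₁.conj_V (p.syl₁.1 (p.swap.V_le_T hw)) (inv_mem hv))
  have hz2 : z ∈ p.h₂.V := by
    rw [hz, commutatorElement_def]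
    exact mul_mem (p.h₂.conj_V (p.syl₂.1 (p.V_le_T hv)) hw) (inv_mem hw)
  have hzne : z ≠ 1 := fun e => hne (commutatorElement_eq_one_iff_mul_comm.1 (hz ▸ e))
  refine ⟨z, hz1, hz2, hzne, ⟨v, hv, w, hw, hz⟩, fun t ht => ?_⟩
  have h1 := p.h₁.conj_V (p.syl₁.1 ht) hz1
  have h2 := p.h₂.conj_V (p.syl₂.1 ht) hz2
  have key : ∀ y, y ∈ p.h₁.V → y ∈ p.h₂.V → y = 1 ∨ y = z := by
    intro y hy1 hy2
    by_contra hno
    push Not at hno
    refine p.V_ne ?_
    have hcl : closure ({z, y} : Set G) ≤ p.h₁.V ⊓ p.h₂.V := (closure_le _).2 (by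
      rintro _ (rfl | rfl)
      · exact ⟨hz1, hz2⟩
      · exact ⟨hy1, hy2⟩)
    have h4 : 4 ≤ Nat.card (closure ({z, y} : Set G)) := by
      classical
      have hs : ({1, z, y, z * y} : Set G) ⊆ closure ({z, y} : Set G) := by
        have m1 : z ∈ closure ({z, y} : Set G) := subset_closure (Set.mem_insert _ _)
        have m2 : y ∈ closure ({z, y} : Set G) := subset_closure (Set.mem_insert_of_mem _ rfl)
        rintro _ (rfl | rfl | rfl | rfl)
        exacts [one_mem _, m1, m2, mul_mem m1 m2]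
      refine le_trans (le_of_eq ?_) (Set.ncard_le_ncard hs (Set.toFinite _))
      have hzy : z ≠ y := Ne.symm hno.2
      have hzy1 : z * y ≠ 1 := fun e => hzy (by
        rw [← mul_one z, ← p.h₁.V_sq hy1, ← mul_assoc, e, one_mul])
      rw [Set.ncard_insert_of_notMem (by simp [Ne.symm hzne, Ne.symm hno.1, Ne.symm hzy1]),
        Set.ncard_insert_of_notMem (by simp [hzy, hno.1]),
        Set.ncard_insert_of_notMem (by simp [hzne]), Set.ncard_singleton]
    have e1 : closure ({z, y} : Set G) = p.h₁.V :=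
      eq_of_le_of_card_ge (hcl.trans inf_le_left) (by rw [p.h₁.card_V]; exact h4)
    have e2 : closure ({z, y} : Set G) = p.h₂.V :=
      eq_of_le_of_card_ge (hcl.trans inf_le_right) (by rw [p.h₂.card_V]; exact h4)
    exact e1.symm.trans e2
  rcases key _ h1 h2 with e | e
  · exact absurd (by
      calc z = t⁻¹ * (t * z * t⁻¹) * t := by group
        _ = 1 := by rw [e]; group) hzne
  · exact mul_inv_eq_iff_eq_mul.1 e

theorem inf_V {z y : G} (hz1 : z ∈ p.h₁.V) (hz2 : z ∈ p.h₂.V) (hz : z ≠ 1) (hy1 : y ∈ p.h₁.V)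
    (hy2 : y ∈ p.h₂.V) : y = 1 ∨ y = z := by
  by_contra hno
  push Not at hno
  -- every element of `V₁` is a product of `z` and `y`
  refine p.V_ne ?_
  have hsub : ∀ (A : Subgroup G), Nat.card A = 4 → (∀ a ∈ A, a * a = 1) → z ∈ A → y ∈ A →
      (A : Set G) = {1, z, y, z * y} := by
    intro A hA hsq hza hya
    classical
    symm
    refine Set.eq_of_subset_of_ncard_le ?_ ?_ (Set.toFinite _)
    · rintro _ (rfl | rfl | rfl | rfl)
      exacts [one_mem A, hza, hya, mul_mem hza hya]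
    · have hzy : z ≠ y := Ne.symm hno.2
      have hzy1 : z * y ≠ 1 := fun e => hzy (by
        rw [← mul_one z, ← hsq y hya, ← mul_assoc, e, one_mul])
      rw [show (A : Set G).ncard = 4 from hA, Set.ncard_insert_of_notMem (by simp [Ne.symm hz, Ne.symm hno.1,
          Ne.symm hzy1]),
        Set.ncard_insert_of_notMem (by simp [hzy, hno.1]),
        Set.ncard_insert_of_notMem (by simp [hz]), Set.ncard_singleton]
  exact SetLike.coe_injective ((hsub _ p.h₁.card_V (fun a ha => p.h₁.V_sq ha) hz1 hy1).trans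
    (hsub _ p.h₂.card_V (fun a ha => p.h₂.V_sq ha) hz2 hy2).symm)

/-- An element of `V₂` centralizing an element of `V₁` outside `V₁ ∩ V₂` lies in the intersection. -/
theorem eq_of_commute {z a b : G} (hz1 : z ∈ p.h₁.V) (hz2 : z ∈ p.h₂.V) (hz : z ≠ 1) (ha : a ∈ p.h₁.V)
    (hb : b ∈ p.h₂.V) (hab : a * b = b * a) : (a = 1 ∨ a = z) ∨ (b = 1 ∨ b = z) := by
  classical
  by_contra hno
  push Not at hno
  obtain ⟨⟨ha1, haz⟩, hb1, hbz⟩ := hno
  obtain ⟨v, hv, w, hw, hne⟩ := p.exists_noncomm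
  -- `V₁ = {1, z, a, z a}`, `V₂ = {1, z, b, z b}`, all commuting
  have hfour : ∀ {A : Subgroup G} {c : G}, Nat.card A = 4 → (∀ x ∈ A, x * x = 1) → z ∈ A → c ∈ A → c ≠ 1 →
      c ≠ z → ∀ x ∈ A, x = 1 ∨ x = z ∨ x = c ∨ x = z * c := by
    intro A c hA hsq hza hca hc1 hcz x hx
    have hs : ({1, z, c, z * c} : Set G) = (A : Set G) := by
      refine Set.eq_of_subset_of_ncard_le ?_ ?_ (Set.toFinite _)
      · rintro _ (rfl | rfl | rfl | rfl)
        exacts [one_mem A, hza, hca, mul_mem hza hca]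
      · have hzc1 : z * c ≠ 1 := fun e => hcz (by
          rw [← one_mul c, ← hsq z hza, mul_assoc, e, mul_one])
        rw [show (A : Set G).ncard = 4 from hA, Set.ncard_insert_of_notMem (by simp [Ne.symm hz, Ne.symm hc1,
            Ne.symm hzc1]),
          Set.ncard_insert_of_notMem (by simp [Ne.symm hcz, hc1]),
          Set.ncard_insert_of_notMem (by simp [hz]), Set.ncard_singleton]
    have h1 : x ∈ ({1, z, c, z * c} : Set G) := hs ▸ hx
    simpa using h1
  have hzb : z * b = b * z := p.h₂.V_comm hz2 hb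
  have hza : z * a = a * z := p.h₁.V_comm hz1 ha
  have hzC : z ∈ centralizer ({z, a, b} : Set G) := mem_centralizer_iff.2 (by
    rintro _ (rfl | rfl | rfl)
    exacts [rfl, hza.symm, hzb.symm])
  have haC : a ∈ centralizer ({z, a, b} : Set G) := mem_centralizer_iff.2 (by
    rintro _ (rfl | rfl | rfl)
    exacts [hza, rfl, hab.symm])
  have hv' := hfour p.h₁.card_V (fun x hx => p.h₁.V_sq hx) hz1 ha ha1 haz v hv
  have hw' := hfour p.h₂.card_V (fun x hx => p.h₂.V_sq hx) hz2 hb hb1 hbz w hw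
  have hwcl : w ∈ closure ({z, a, b} : Set G) := by
    have m1 : z ∈ closure ({z, a, b} : Set G) := subset_closure (Set.mem_insert _ _)
    have m2 : b ∈ closure ({z, a, b} : Set G) :=
      subset_closure (Set.mem_insert_of_mem _ (Set.mem_insert_of_mem _ rfl))
    rcases hw' with rfl | rfl | rfl | rfl
    exacts [one_mem _, m1, m2, mul_mem m1 m2]
  have hvC : v ∈ centralizer ({z, a, b} : Set G) := by
    rcases hv' with rfl | rfl | rfl | rfl
    exacts [one_mem _, hzC, haC, mul_mem hzC haC]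
  refine hne ?_
  have h2 : ({z, a, b} : Set G) ⊆ centralizer ({v} : Set G) := fun q hq =>
    mem_centralizer_singleton_iff.2 (mem_centralizer_iff.1 hvC q hq)
  exact (mem_centralizer_singleton_iff.1 ((closure_le _).2 h2 hwcl)).symm

include p in
theorem D_mem {d : G} (hd : d ∈ p.h₁.V ⊔ p.h₂.V) : ∃ a ∈ p.h₁.V, ∃ b ∈ p.h₂.V, d = a * b := by
  have hle : p.h₂.V ≤ normalizer (p.h₁.V : Set G) := fun w hw =>
    p.h₁.le_normalizer_V (p.syl₁.1 (p.swap.V_le_T hw))
  have h := SetLike.ext'_iff.1 (rfl : p.h₁.V ⊔ p.h₂.V = p.h₁.V ⊔ p.h₂.V)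
  obtain ⟨a, ha, b, hb, e⟩ : d ∈ (p.h₁.V : Set G) * (p.h₂.V : Set G) := by
    rw [← Subgroup.coe_mul_of_right_le_normalizer_left _ _ hle]
    exact hd
  exact ⟨a, ha, b, hb, e.symm⟩

theorem D_invol {d : G} (hd : d ∈ p.h₁.V ⊔ p.h₂.V) (hd2 : d * d = 1) : d ∈ p.h₁.V ∨ d ∈ p.h₂.V := by
  obtain ⟨a, ha, b, hb, rfl⟩ := p.D_mem hd
  obtain ⟨z, hz1, hz2, hz, -, -⟩ := p.exists_z
  have hab : a * b = b * a := by
    have := p.h₁.V_sq ha
    have := p.h₂.V_sq hb
    calc a * b = a * b * ((a * b) * (a * b))⁻¹ := by rw [hd2, inv_one, mul_one]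
      _ = b⁻¹ * a⁻¹ := by group
      _ = b * a := by
        rw [inv_eq_of_mul_eq_one_right (p.h₂.V_sq hb), inv_eq_of_mul_eq_one_right (p.h₁.V_sq ha)]
  rcases p.eq_of_commute hz1 hz2 hz ha hb hab with (rfl | rfl) | (rfl | rfl)
  · exact Or.inr (by rwa [one_mul])
  · exact Or.inr (mul_mem hz2 hb)
  · exact Or.inl (by rwa [mul_one])
  · exact Or.inl (mul_mem ha hz1)

theorem D_le_T : p.h₁.V ⊔ p.h₂.V ≤ T := sup_le p.V_le_T p.swap.V_le_T

variable (hc : p.h₁.c ≠ 1)
include hc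

theorem c_notMem_V : p.h₁.c ∉ p.h₁.V := fun ⟨x, _, hx⟩ => hc (p.h₁.c_out x hx)

theorem c_notMem_D : p.h₁.c ∉ p.h₁.V ⊔ p.h₂.V := fun h => by
  rcases p.D_invol h p.h₁.c_sq with h1 | h1
  · exact p.c_notMem_V hc h1
  · obtain ⟨v, hv, w, hw, hne⟩ := p.exists_noncomm
    obtain ⟨z, hz1, hz2, hz, -, -⟩ := p.exists_z
    rcases p.eq_of_commute hz1 hz2 hz hv h1 (p.c_central (p.h₁.V_le hv)).symm with h2 | h2
    · rcases h2 with rfl | rfl
      · exact hne (by rw [one_mul, mul_one])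
      · exact hne (p.h₂.V_comm hz2 hw)
    · rcases h2 with e | e
      · exact hc e
      · exact p.c_notMem_V hc (e ▸ hz1)

theorem card_T : Nat.card T = 16 := by
  haveI := Fact.mk Nat.prime_two
  have h1 : Nat.card T * T.relIndex P₁ = 48 := by
    rw [← p.h₁.card_eq hc, ← relIndex_bot_left, ← relIndex_bot_left]
    exact relIndex_mul_relIndex ⊥ T P₁ bot_le p.syl₁.1
  obtain ⟨k, hk⟩ := p.syl₁.2.1.exists_card_eq
  have hodd := p.syl₁.2.2
  have hdvd : 16 ∣ 2 ^ k := by
    rw [← hk]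
    exact (((Nat.coprime_two_left.2 hodd).pow_left 4).dvd_of_dvd_mul_right
      (h1 ▸ (show 2 ^ 4 ∣ 48 by norm_num)))
  have hle : 2 ^ k ∣ 48 := hk ▸ Dvd.intro _ h1
  have h4 : 4 ≤ k := (Nat.pow_dvd_pow_iff_le_right (by norm_num : 1 < 2)).1 (show 2 ^ 4 ∣ 2 ^ k from hdvd)
  have : k < 5 := by
    by_contra hh
    have : 2 ^ 5 ∣ 48 := (Nat.pow_dvd_pow 2 (by omega)).trans hle
    norm_num at this
  rw [hk, show k = 4 by omega]
  norm_num

/-- `T` is the union of `D` and its translate by the central involution. -/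
theorem T_cases {t : G} (ht : t ∈ T) : t ∈ p.h₁.V ⊔ p.h₂.V ∨ t * p.h₁.c ∈ p.h₁.V ⊔ p.h₂.V := by
  haveI := Fact.mk Nat.prime_two
  set D := p.h₁.V ⊔ p.h₂.V
  have hlt : p.h₁.V < D := lt_of_le_of_ne le_sup_left fun e => by
    obtain ⟨v, hv, w, hw, hne⟩ := p.exists_noncomm
    exact hne (p.h₁.V_comm hv (e ▸ mem_sup_right hw))
  have hD : IsPGroup 2 D := p.syl₁.2.1.to_le p.D_le_T
  obtain ⟨k, hk⟩ := hD.exists_card_eq
  have h4 : 4 < Nat.card D := by
    rw [← p.h₁.card_V]
    exact Set.Finite.card_lt_card (Set.toFinite _) hlt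
  have h2 := relIndex_mul_relIndex ⊥ D T bot_le p.D_le_T
  rw [relIndex_bot_left, relIndex_bot_left, p.card_T hc, hk] at h2
  have hk4 : k ≤ 4 := by
    by_contra hh
    have : 2 ^ 5 ∣ 16 := (Nat.pow_dvd_pow 2 (by omega)).trans (Dvd.intro _ h2)
    norm_num at this
  have hr : D.relIndex T = 2 := by
    rw [hk] at h4
    have hk3 : 3 ≤ k := by
      by_contra hh
      have : 2 ^ k ≤ 2 ^ 2 := Nat.pow_le_pow_right (by norm_num) (by omega)
      omega
    rcases (show k = 3 ∨ k = 4 by omega) with rfl | rfl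
    · omega
    · exact absurd ((relIndex_eq_one.1 (by omega : D.relIndex T = 1)) p.c_mem_T) (p.c_notMem_D hc)
  have hc' : (⟨p.h₁.c, p.c_mem_T⟩ : T) ∉ D.subgroupOf T := fun h => p.c_notMem_D hc (mem_subgroupOf.1 h)
  by_cases h : t ∈ D
  · exact Or.inl h
  · right
    have := (Subgroup.mul_mem_iff_of_index_two (H := D.subgroupOf T) hr (a := ⟨t, ht⟩)
      (b := ⟨p.h₁.c, p.c_mem_T⟩)).2 (iff_of_false (fun hh => h (mem_subgroupOf.1 hh)) hc')
    exact mem_subgroupOf.1 this

theorem T_invol {t : G} (ht : t ∈ T) (ht2 : t * t = 1) : t ∈ p.h₁.E ∨ t ∈ p.h₂.E := by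
  rcases p.T_cases hc ht with h | h
  · exact (p.D_invol h ht2).imp (fun h => p.h₁.V_le_E h) fun h => p.h₂.V_le_E h
  · have hd2 : t * p.h₁.c * (t * p.h₁.c) = 1 := by
      calc t * p.h₁.c * (t * p.h₁.c) = t * (p.h₁.c * t) * p.h₁.c := by group
        _ = t * t * (p.h₁.c * p.h₁.c) := by rw [p.c_central (p.syl₁.1 ht)]; group
        _ = 1 := by rw [ht2, p.h₁.c_sq, mul_one]
    have e : t * p.h₁.c * p.h₁.c = t := by rw [mul_assoc, p.h₁.c_sq, mul_one]
    rcases p.D_invol h hd2 with h1 | h1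
    · exact Or.inl (e ▸ mul_mem (p.h₁.V_le_E h1) p.h₁.c_mem_E)
    · exact Or.inr (e ▸ mul_mem (p.h₂.V_le_E h1) p.c_mem_E₂)

theorem centralizer_c : centralizer ({p.h₁.c} : Set G) = P₁ := by
  have h2 : IsPGroup 2 (zpowers p.h₁.c) := IsPGroup.of_card (n := 1) (by
    rw [Nat.card_zpowers, pow_one]
    exact orderOf_eq_prime (by rw [pow_two]; exact p.h₁.c_sq) hc)
  have hle : P₁ ≤ centralizer ({p.h₁.c} : Set G) := fun g hg =>
    mem_centralizer_singleton_iff.2 (p.c_central hg).symm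
  have hne : zpowers p.h₁.c ≠ ⊥ := fun e => hc (zpowers_eq_bot.1 e)
  have hcn : centralizer ({p.h₁.c} : Set G) ≤ normalizer (zpowers p.h₁.c : Set G) := by
    rw [← centralizer_closure, zpowers_eq_closure]
    exact centralizer_le_normalizer _
  exact le_antisymm (hcn.trans (normalizer_eq_of_max p.max₁ h2 hne (hle.trans hcn)).le) hle

/-- An element normalising `T` lies in it or interchanges the two sides. -/
theorem normalizer_cases {n : G} (hn : n ∈ normalizer (T : Set G)) :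
    n ∈ T ∨ ((∀ e, e ∈ p.h₁.E ↔ n * e * n⁻¹ ∈ p.h₂.E) ∧ (∀ e, e ∈ p.h₂.E ↔ n * e * n⁻¹ ∈ p.h₁.E)) := by
  set f := (MulAut.conj n).toMonoidHom
  have hmem : ∀ (X : Subgroup G) (e : G), n * e * n⁻¹ ∈ X.map f ↔ e ∈ X := fun X e => by
    rw [mem_map_equiv, MulAut.conj_symm_apply]
    rw [show n⁻¹ * (n * e * n⁻¹) * n = e by group]
  have himg : ∀ X : Subgroup G, X ≤ T → (∀ e ∈ X, e * e = 1) →
      X.map f ≤ p.h₁.E ∨ X.map f ≤ p.h₂.E := fun X hXT hsq => by
    refine le_or_le_of_subset_union ?_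
    rintro _ ⟨e, he, rfl⟩
    refine p.T_invol hc ((mem_normalizer_iff.1 hn e).1 (hXT he)) ?_
    show n * e * n⁻¹ * (n * e * n⁻¹) = 1
    rw [show n * e * n⁻¹ * (n * e * n⁻¹) = n * (e * e) * n⁻¹ by group, hsq e he]
    group
  have hnle : ¬ p.h₁.E ≤ p.h₂.E := fun h => by
    obtain ⟨v, hv, w, hw, hne⟩ := p.exists_noncomm
    exact hne (mem_centralizer_iff.1 (mem_inf.1 (h (p.h₁.V_le_E hv))).2 w hw).symm
  have hnle' : ¬ p.h₂.E ≤ p.h₁.E := fun h => by
    obtain ⟨v, hv, w, hw, hne⟩ := p.exists_noncomm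
    exact hne (mem_centralizer_iff.1 (mem_inf.1 (h (p.h₂.V_le_E hw))).2 v hv)
  have hcard : ∀ X : Subgroup G, Nat.card (X.map f) = Nat.card X := fun X =>
    card_map_of_injective (MulAut.conj n).injective
  have hfix : ∀ X : Subgroup G, X.map f = X → n ∈ normalizer (X : Set G) := fun X hX =>
    mem_normalizer_iff.2 fun e => by
      constructor
      · exact fun he => hX ▸ (hmem X e).2 he
      · exact fun he => (hmem X e).1 (hX.symm ▸ he)
  have hinj := Subgroup.map_injective (f := f) (MulAut.conj n).injective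
  rcases himg _ p.E_le_T (fun e => p.h₁.E_sq) with h1 | h1 <;>
    rcases himg _ p.swap.E_le_T (fun e => p.h₂.E_sq) with h2 | h2
  · exact absurd ((map_le_map_iff_of_injective (MulAut.conj n).injective).1
      (h2.trans (eq_of_le_of_card_ge h1 (hcard _).ge).ge)) hnle'
  · left
    rw [← p.inf_eq]
    refine mem_inf.2 ⟨?_, ?_⟩
    · rw [← p.normalizer_E]; exact hfix _ (eq_of_le_of_card_ge h1 (hcard _).ge)
    · rw [← p.swap.normalizer_E]; exact hfix _ (eq_of_le_of_card_ge h2 (hcard _).ge)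
  · right
    have le1 : Nat.card p.h₁.E ≤ Nat.card p.h₂.E := hcard p.h₁.E ▸ card_le_of_le h1
    have le2 : Nat.card p.h₂.E ≤ Nat.card p.h₁.E := hcard p.h₂.E ▸ card_le_of_le h2
    have e1 := eq_of_le_of_card_ge h1 (le2.trans (hcard _).ge)
    have e2 := eq_of_le_of_card_ge h2 (le1.trans (hcard _).ge)
    exact ⟨fun e => by rw [← e1, hmem], fun e => by rw [← e2, hmem]; rfl⟩
  · exact absurd ((map_le_map_iff_of_injective (MulAut.conj n).injective).1
      (h1.trans (eq_of_le_of_card_ge h2 (hcard _).ge).ge)) hnle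

omit hc in
theorem map_side {n : G} (h : ∀ e, e ∈ p.h₁.E ↔ n * e * n⁻¹ ∈ p.h₂.E) :
    ∀ g, g ∈ P₁ ↔ n * g * n⁻¹ ∈ P₂ := by
  intro g
  conv_lhs => rw [← p.normalizer_E]
  conv_rhs => rw [← p.swap.normalizer_E]
  show _ ↔ n * g * n⁻¹ ∈ normalizer (p.h₂.E : Set G)
  rw [mem_normalizer_iff, mem_normalizer_iff]
  constructor
  · intro hg e
    have h0 : n * (n⁻¹ * e * n) * n⁻¹ = e := by group
    rw [← h0, ← h, hg, h]
    rw [show n * g * n⁻¹ * (n * (n⁻¹ * e * n) * n⁻¹) * (n * g * n⁻¹)⁻¹ =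
      n * (g * (n⁻¹ * e * n) * g⁻¹) * n⁻¹ by group]
  · intro hg e
    rw [h, hg, h]
    rw [show n * g * n⁻¹ * (n * e * n⁻¹) * (n * g * n⁻¹)⁻¹ = n * (g * e * g⁻¹) * n⁻¹ by group]

omit hc in
theorem map_V {n : G} (h : ∀ e, e ∈ p.h₁.E ↔ n * e * n⁻¹ ∈ p.h₂.E) {v : G} (hv : v ∈ p.h₁.V) :
    n * v * n⁻¹ ∈ p.h₂.V := by
  obtain ⟨hsq, a, ha, b, hb, rfl⟩ := p.h₁.mem_V_iff.1 hv
  refine p.h₂.mem_V_iff.2 ⟨?_, _, (p.map_side h a).1 ha, _, (p.map_side h b).1 hb, ?_⟩
  · rw [show n * ⁅a, b⁆ * n⁻¹ * (n * ⁅a, b⁆ * n⁻¹) = n * (⁅a, b⁆ * ⁅a, b⁆) * n⁻¹ by group, hsq]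
    group
  · simp only [commutatorElement_def]
    group

theorem map_c {n : G} (h : ∀ e, e ∈ p.h₁.E ↔ n * e * n⁻¹ ∈ p.h₂.E) :
    n * p.h₁.c * n⁻¹ = p.h₂.c := by
  refine (p.h₂.center_eq ((p.map_side h _).1 p.h₁.c_mem) fun q hq => ?_).resolve_left fun e => hc ?_
  · have h0 : n * (n⁻¹ * q * n) * n⁻¹ = q := by group
    have hq' : n⁻¹ * q * n ∈ P₁ := (p.map_side h _).2 (h0.symm ▸ hq)
    calc n * p.h₁.c * n⁻¹ * q = n * (p.h₁.c * (n⁻¹ * q * n)) * n⁻¹ := by group
      _ = n * (n⁻¹ * q * n * p.h₁.c) * n⁻¹ := by rw [p.c_central hq']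
      _ = _ := by group
  · calc p.h₁.c = n⁻¹ * (n * p.h₁.c * n⁻¹) * n := by group
      _ = 1 := by rw [e]; group

theorem fix_z {z n : G} (hzT : ∀ t ∈ T, t * z = z * t) (hz1 : z ∈ p.h₁.V) (hz2 : z ∈ p.h₂.V) (hz : z ≠ 1)
    (hn : n ∈ normalizer (T : Set G)) : n * z = z * n := by
  rcases p.normalizer_cases hc hn with h | ⟨h1, h2⟩
  · exact hzT n h
  · rcases p.inf_V hz1 hz2 hz (p.swap.map_V h2 hz2) (p.map_V h1 hz1) with e | e
    · refine absurd ?_ hz
      calc z = n⁻¹ * (n * z * n⁻¹) * n := by group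
        _ = 1 := by rw [e]; group
    · exact mul_inv_eq_iff_eq_mul.1 e

theorem not_conj_z {z : G} (hzT : ∀ t ∈ T, t * z = z * t) (hz1 : z ∈ p.h₁.V) (hz2 : z ∈ p.h₂.V) (hz : z ≠ 1)
    {g : G} : g * p.h₁.c * g⁻¹ ≠ z := by
  haveI := Fact.mk Nat.prime_two
  intro e
  obtain ⟨S, hTS⟩ := p.syl₁.2.1.exists_le_sylow
  have hS : (S : Subgroup G) = T := by
    by_contra hne
    haveI := S.2.isNilpotent
    have hlt := CfsgLib.Fusion.lt_inf_normalizer hTS (Ne.symm hne)
    set N := (S : Subgroup G) ⊓ normalizer (T : Set G)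
    have hNz : N ≤ centralizer ({z} : Set G) := fun n hn =>
      mem_centralizer_singleton_iff.2 (p.fix_z hc hzT hz1 hz2 hz (mem_inf.1 hn).2)
    have h1 : Nat.card (centralizer ({z} : Set G)) = 48 := by
      have hmap : (centralizer ({p.h₁.c} : Set G)).map (MulAut.conj g).toMonoidHom =
          centralizer ({z} : Set G) := by
        ext x
        rw [mem_map_equiv, MulAut.conj_symm_apply, mem_centralizer_singleton_iff, mem_centralizer_singleton_iff, ← e]
        constructor <;> intro hx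
        · calc x * (g * p.h₁.c * g⁻¹) = g * ((g⁻¹ * x * g) * p.h₁.c) * g⁻¹ := by group
            _ = g * (p.h₁.c * (g⁻¹ * x * g)) * g⁻¹ := by rw [hx]
            _ = _ := by group
        · calc g⁻¹ * x * g * p.h₁.c = g⁻¹ * (x * (g * p.h₁.c * g⁻¹)) * g := by group
            _ = g⁻¹ * ((g * p.h₁.c * g⁻¹) * x) * g := by rw [hx]
            _ = _ := by group
      rw [← hmap, p.centralizer_c hc, card_map_of_injective (MulAut.conj g).injective, p.h₁.card_eq hc]
    obtain ⟨k, hk⟩ := (S.2.to_le (inf_le_left : N ≤ (S : Subgroup G))).exists_card_eq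
    have h2 : 2 ^ k ∣ 48 := hk ▸ h1 ▸ card_dvd_of_le hNz
    have h3 : 16 < 2 ^ k := by
      rw [← hk, ← p.card_T hc]
      exact Set.Finite.card_lt_card (Set.toFinite _) hlt
    have h4 : 5 ≤ k := by
      by_contra hh
      have : 2 ^ k ≤ 2 ^ 4 := Nat.pow_le_pow_right (by norm_num) (by omega)
      omega
    have : 2 ^ 5 ∣ 48 := (Nat.pow_dvd_pow 2 h4).trans h2
    norm_num at this
  obtain ⟨n, hn, hn'⟩ := CfsgLib.Fusion.exists_normalizer_conj_eq_of_central S (x := p.h₁.c)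
    (by rw [hS]; exact fun t ht => mem_centralizer_singleton_iff.2 (p.c_central (p.syl₁.1 ht)).symm) g
    (by rw [hS, e]; exact fun t ht => mem_centralizer_singleton_iff.2 (hzT t ht))
  rw [e, mul_inv_eq_iff_eq_mul] at hn'
  rw [hS] at hn
  have h2 : n * p.h₁.c = n * z := hn'.trans (p.fix_z hc hzT hz1 hz2 hz hn).symm
  exact p.c_notMem_V hc (mul_left_cancel h2 ▸ hz1)

/-- No conjugate of `c` lies in `D`. -/
theorem conj_notMem_D (g : G) : g * p.h₁.c * g⁻¹ ∉ p.h₁.V ⊔ p.h₂.V := by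
  intro h
  obtain ⟨z, hz1, hz2, hz, -, hzT⟩ := p.exists_z
  set y := g * p.h₁.c * g⁻¹
  have hy : y * y = 1 := by
    show g * p.h₁.c * g⁻¹ * (g * p.h₁.c * g⁻¹) = 1
    rw [show g * p.h₁.c * g⁻¹ * (g * p.h₁.c * g⁻¹) = g * (p.h₁.c * p.h₁.c) * g⁻¹ by group, p.h₁.c_sq]
    group
  have hy1 : y ≠ 1 := fun e => hc (by
    calc p.h₁.c = g⁻¹ * y * g := by simp only [y]; group
      _ = 1 := by rw [e]; group)
  obtain ⟨q, hq⟩ : ∃ q, q * y * q⁻¹ = z := by
    rcases p.D_invol h hy with h1 | h1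
    · exact (p.h₁.V_transitive h1 hz1 hy1 hz).imp fun q hq => hq.2
    · exact (p.h₂.V_transitive h1 hz2 hy1 hz).imp fun q hq => hq.2
  refine p.not_conj_z hc hzT hz1 hz2 hz (g := q * g) ?_
  rw [← hq]
  simp only [y]
  group

variable (hc₂ : p.h₂.c ≠ 1)
include hc₂

theorem c_ne : p.h₂.c ≠ p.h₁.c := fun e => p.ne (by
  rw [← p.centralizer_c hc, ← e]
  exact p.swap.centralizer_c hc₂)

theorem normalizer_pair {x y : G} (hx : x ∈ normalizer (T : Set G)) (hy : y ∈ normalizer (T : Set G))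
    (hxT : x ∉ T) (hyT : y ∉ T) : x * y ∈ T := by
  obtain ⟨hx1, hx2⟩ := (p.normalizer_cases hc hx).resolve_left hxT
  obtain ⟨hy1, hy2⟩ := (p.normalizer_cases hc hy).resolve_left hyT
  refine (p.normalizer_cases hc (mul_mem hx hy)).resolve_right fun h => ?_
  refine p.E_ne (SetLike.ext fun e => ?_)
  have h3 : x * y * e * (x * y)⁻¹ = x * (y * e * y⁻¹) * x⁻¹ := by group
  constructor
  · intro he
    have h5 : x * y * e * (x * y)⁻¹ ∈ p.h₁.E := by
      rw [h3]; exact (hx2 _).1 ((hy1 e).1 he)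
    exact (h.2 e).2 h5
  · intro he
    have h5 : x * y * e * (x * y)⁻¹ ∈ p.h₂.E := by
      rw [h3]; exact (hx1 _).1 ((hy2 e).1 he)
    exact (h.1 e).2 h5

/-- An involution interchanging the sides centralises at most two elements of `D`. -/
theorem fix_D {z y d : G} (hz1 : z ∈ p.h₁.V) (hz2 : z ∈ p.h₂.V) (hz : z ≠ 1)
    (hy2 : y * y = 1) (h1 : ∀ e, e ∈ p.h₁.E ↔ y * e * y⁻¹ ∈ p.h₂.E)
    (h2 : ∀ e, e ∈ p.h₂.E ↔ y * e * y⁻¹ ∈ p.h₁.E) (hyz : y * z = z * y)
    (hd : d ∈ p.h₁.V ⊔ p.h₂.V) (hyd : y * d = d * y) : d = 1 ∨ d = z := by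
  have hyi : y⁻¹ = y := inv_eq_of_mul_eq_one_right hy2
  have hfix : ∀ v, v ∈ p.h₁.V → y * v * y⁻¹ = v → v = 1 ∨ v = z := fun v hv e =>
    p.inf_V hz1 hz2 hz hv (e ▸ p.map_V h1 hv)
  have hd' : y * d * y⁻¹ = d := by rw [hyd, mul_inv_cancel_right]
  obtain ⟨a, ha, b, hb, rfl⟩ := p.D_mem hd
  have ha' := p.map_V h1 ha
  have hb' := p.swap.map_V h2 hb
  set a' := y * a * y⁻¹
  set b' := y * b * y⁻¹
  have e : a' * b' = a * b := by
    rw [← hd']; simp only [a', b']; group
  -- `b⁻¹ a'` and `b'` differ by elements of the intersection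
  have hab' : a * b' = b' * a := p.h₁.V_comm ha hb'
  have key : ∀ q, q = 1 ∨ q = z → (a * q * b = a * b * q ∧ q * q = 1 ∧ y * q * y⁻¹ = q) := by
    rintro q (rfl | rfl)
    · exact ⟨by group, one_mul 1, by group⟩
    · refine ⟨?_, p.h₁.V_sq hz1, by rw [hyz, mul_inv_cancel_right]⟩
      rw [mul_assoc, p.h₂.V_comm hz2 hb, mul_assoc]
  -- a' b' = a b: move to the common part
  have hconj : a⁻¹ * a' * a ∈ p.h₂.V := by
    have := p.h₂.conj_V (p.syl₂.1 (inv_mem (p.V_le_T ha))) ha'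
    rwa [inv_inv] at this
  have hq1 : a⁻¹ * (a' * a) * (a⁻¹ * b') = b := by
    rw [show a⁻¹ * (a' * a) * (a⁻¹ * b') = a⁻¹ * (a' * b') by group, e]; group
  obtain ⟨q, hq, hb'q⟩ : ∃ q, (q = 1 ∨ q = z) ∧ b' = a * q := by
    refine ⟨a⁻¹ * b', p.inf_V hz1 hz2 hz (mul_mem (inv_mem ha) hb') ?_, by group⟩
    have h3 : a⁻¹ * b' = (a⁻¹ * a' * a)⁻¹ * b := by
      rw [← hq1]; group
    exact h3 ▸ mul_mem (inv_mem hconj) hb
  obtain ⟨k1, k2, k3⟩ := key q hq
  have hbq : b = a' * q := by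
    have : y * b' * y⁻¹ = y * (a * q) * y⁻¹ := by rw [hb'q]
    rw [show y * b' * y⁻¹ = (y * y) * b * (y * y)⁻¹ by simp only [b']; group, hy2] at this
    calc b = 1 * b * (1 : G)⁻¹ := by group
      _ = _ := this
      _ = y * a * y⁻¹ * (y * q * y⁻¹) := by group
      _ = a' * q := by rw [k3]
  -- so `a` and `b` commute
  have hab : a * b = b * a := by
    have ha'q : a' = b * q := by rw [hbq, mul_assoc, k2, mul_one]
    have hqc : q * a = a * q := by
      rcases hq with rfl | rfl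
      · group
      · exact p.h₁.V_comm hz1 ha
    calc a * b = a' * b' := e.symm
      _ = b * q * (a * q) := by rw [ha'q, hb'q]
      _ = b * (q * a) * q := by group
      _ = b * a * (q * q) := by rw [hqc]; group
      _ = b * a := by rw [k2, mul_one]
  have hfix2 : ∀ w, w ∈ p.h₂.V → y * w * y⁻¹ = w → w = 1 ∨ w = z := fun w hw e =>
    p.inf_V hz1 hz2 hz (e ▸ p.swap.map_V h2 hw) hw
  rcases p.eq_of_commute hz1 hz2 hz ha hb hab with h | h
  · have : a * b ∈ p.h₂.V := by
      rcases h with rfl | rfl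
      · rwa [one_mul]
      · exact mul_mem hz2 hb
    exact hfix2 _ this hd'
  · have : a * b ∈ p.h₁.V := by
      rcases h with rfl | rfl
      · rwa [mul_one]
      · exact mul_mem ha hz1
    exact hfix _ this hd'

/-- The central involution is outside the subgroup generated by the elements of odd order. -/
theorem c_notMem_odd : p.h₁.c ∉ closure {g : G | Odd (orderOf g)} := by
  haveI := Fact.mk Nat.prime_two
  obtain ⟨z, hz1, hz2, hz, -, hzT⟩ := p.exists_z
  obtain ⟨D, hDdef⟩ : ∃ D, D = p.h₁.V ⊔ p.h₂.V := ⟨_, rfl⟩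
  obtain ⟨S, hTS⟩ := p.syl₁.2.1.exists_le_sylow
  have hDT : D ≤ T := hDdef ▸ p.D_le_T
  have hDn : ∀ n ∈ normalizer (T : Set G), n ∈ normalizer (D : Set G) := by
    have key : ∀ n ∈ normalizer (T : Set G), ∀ d ∈ D, n * d * n⁻¹ ∈ D := by
      intro n hn d hd
      rw [hDdef] at hd ⊢
      rcases p.normalizer_cases hc hn with h | ⟨h1, h2⟩
      · obtain ⟨a, ha, b, hb, rfl⟩ := p.D_mem hd
        rw [show n * (a * b) * n⁻¹ = n * a * n⁻¹ * (n * b * n⁻¹) by group]
        exact mul_mem (mem_sup_left (p.h₁.conj_V (p.syl₁.1 h) ha)) (mem_sup_right (p.h₂.conj_V (p.syl₂.1 h) hb))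
      · obtain ⟨a, ha, b, hb, rfl⟩ := p.D_mem hd
        rw [show n * (a * b) * n⁻¹ = n * a * n⁻¹ * (n * b * n⁻¹) by group]
        exact mul_mem (mem_sup_right (p.map_V h1 ha)) (mem_sup_left (p.swap.map_V h2 hb))
    intro n hn
    refine mem_normalizer_iff.2 fun d => ⟨key n hn d, fun hd => ?_⟩
    have := key n⁻¹ (inv_mem hn) _ hd
    rwa [inv_inv, show n⁻¹ * (n * d * n⁻¹) * n = d by group] at this
  -- the Sylow subgroup normalises `T`
  have hTn : (S : Subgroup G) ≤ normalizer (T : Set G) := by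
    haveI := S.2.isNilpotent
    by_contra hnot
    obtain ⟨N, hN⟩ : ∃ N, N = (S : Subgroup G) ⊓ normalizer (T : Set G) := ⟨_, rfl⟩
    have hNS : N ≤ (S : Subgroup G) := hN ▸ inf_le_left
    have hne : N ≠ (S : Subgroup G) := fun e => hnot (e ▸ hN ▸ inf_le_right)
    have hlt := CfsgLib.Fusion.lt_inf_normalizer hNS hne
    obtain ⟨g, hg, hgN⟩ := SetLike.exists_of_lt hlt
    obtain ⟨hgS, hgn⟩ := mem_inf.1 hg
    refine hgN (hN ▸ mem_inf.2 ⟨hgS, ?_⟩)
    have himg : ∀ X : Subgroup G, X ≤ T → (∀ e ∈ X, e * e = 1) → 8 ≤ Nat.card X →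
        X.map (MulAut.conj g).toMonoidHom ≤ T := by
      intro X hXT hsq h8
      set Y := X.map (MulAut.conj g).toMonoidHom with hY
      have hYN : Y ≤ N := by
        rintro _ ⟨e, he, rfl⟩
        exact (mem_normalizer_iff.1 hgn e).1 (hN ▸ mem_inf.2 ⟨hTS (hXT he), le_normalizer (hXT he)⟩)
      have hYsq : ∀ e ∈ Y, e * e = 1 := by
        rintro _ ⟨e, he, rfl⟩
        rw [← map_mul, hsq e he, map_one]
      by_contra hYT
      obtain ⟨x, hxY, hxT⟩ := SetLike.not_le_iff_exists.1 hYT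
      have hxN : x ∈ normalizer (T : Set G) := (mem_inf.1 (hN ▸ hYN hxY)).2
      obtain ⟨hx1, hx2⟩ := (p.normalizer_cases hc hxN).resolve_left hxT
      have hcomm : ∀ a ∈ Y, ∀ b ∈ Y, a * b = b * a := fun a ha b hb => by
        calc a * b = a * b * ((a * b) * (a * b))⁻¹ := by rw [hYsq _ (mul_mem ha hb), inv_one, mul_one]
          _ = b⁻¹ * a⁻¹ := by group
          _ = b * a := by
            rw [inv_eq_of_mul_eq_one_right (hYsq a ha), inv_eq_of_mul_eq_one_right (hYsq b hb)]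
      -- `Y ∩ T` is fixed by the swap, so has order at most two
      have hsmall : ∀ e ∈ Y ⊓ T, e = 1 ∨ e = z := by
        intro e he
        have hxe : x * e * x⁻¹ = e := by rw [hcomm x hxY e he.1, mul_inv_cancel_right]
        have hxy2 := hYsq x hxY
        rcases p.T_cases hc he.2 with hd | hd
        · exact p.fix_D hc hc₂ hz1 hz2 hz hxy2 hx1 hx2 (p.fix_z hc hzT hz1 hz2 hz hxN) hd
            (hcomm x hxY e he.1)
        · exfalso
          have he1 : e ∈ p.h₁.E ∧ e ∈ p.h₂.E := by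
            rcases p.T_invol hc he.2 (hYsq e he.1) with h | h
            · exact ⟨h, hxe ▸ (hx1 e).1 h⟩
            · exact ⟨hxe ▸ (hx2 e).1 h, h⟩
          have hd1 : e * p.h₁.c ∈ p.h₁.E := mul_mem he1.1 p.h₁.c_mem_E
          have hd2 : e * p.h₁.c ∈ p.h₂.E := mul_mem he1.2 p.c_mem_E₂
          have hdsq := p.h₁.E_sq hd1
          have hdz : e * p.h₁.c = 1 ∨ e * p.h₁.c = z := by
            rcases p.D_invol hd hdsq with h | h
            · by_contra hno
              push Not at hno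
              obtain ⟨v, hv, w, hw, hne⟩ := p.exists_noncomm
              rcases p.eq_of_commute hz1 hz2 hz h hw
                (mem_centralizer_iff.1 (mem_inf.1 hd2).2 w hw).symm with h' | h'
              · rcases h' with h' | h'
                exacts [hno.1 h', hno.2 h']
              · rcases h' with h' | h'
                · exact hne (by rw [h', one_mul, mul_one])
                · exact hne (p.h₁.V_comm hv (h' ▸ hz1))
            · by_contra hno
              push Not at hno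
              obtain ⟨v, hv, w, hw, hne⟩ := p.exists_noncomm
              rcases p.eq_of_commute hz1 hz2 hz hv h
                (mem_centralizer_iff.1 (mem_inf.1 hd1).2 v hv) with h' | h'
              · rcases h' with h' | h'
                · exact hne (by rw [h', one_mul, mul_one])
                · exact hne (p.h₂.V_comm (h' ▸ hz2) hw)
              · rcases h' with h' | h'
                exacts [hno.1 h', hno.2 h']
          have hxd : x * (e * p.h₁.c) * x⁻¹ = e * p.h₁.c := by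
            rcases hdz with h | h <;> rw [h]
            · group
            · rw [p.fix_z hc hzT hz1 hz2 hz hxN, mul_inv_cancel_right]
          apply p.c_ne hc hc₂
          rw [← p.map_c hc hx1]
          calc x * p.h₁.c * x⁻¹ = (x * e * x⁻¹)⁻¹ * (x * (e * p.h₁.c) * x⁻¹) := by group
            _ = e⁻¹ * (e * p.h₁.c) := by rw [hxe, hxd]
            _ = _ := by group
      have hidx : ∀ a ∈ Y, ∀ b ∈ Y, a ∉ T → b ∉ T → a * b ∈ T := fun a ha b hb => p.normalizer_pair hc hc₂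
        (mem_inf.1 (hN ▸ hYN ha)).2 (mem_inf.1 (hN ▸ hYN hb)).2
      classical
      have hsub : (Y : Set G) ⊆ {1, z, x, x * z} := by
        intro e he
        by_cases h : e ∈ T
        · rcases hsmall e ⟨he, h⟩ with rfl | rfl <;> simp
        · have hxi : x⁻¹ = x := inv_eq_of_mul_eq_one_right (hYsq x hxY)
          have e' : e = x * (x * e) := by rw [← mul_assoc, hYsq x hxY, one_mul]
          rcases hsmall (x * e) ⟨mul_mem hxY he, hidx x hxY e he hxT h⟩ with h' | h' <;> rw [h'] at e' <;>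
            simp [e']
      have h4 : Nat.card Y ≤ 4 := by
        rw [show Nat.card Y = (Y : Set G).ncard from rfl]
        refine (Set.ncard_le_ncard hsub (Set.toFinite _)).trans ?_
        exact (Set.ncard_insert_le _ _).trans (Nat.add_le_add_right ((Set.ncard_insert_le _ _).trans
          (Nat.add_le_add_right ((Set.ncard_insert_le _ _).trans (by rw [Set.ncard_singleton])) 1)) 1)
      rw [hY, card_map_of_injective (MulAut.conj g).injective] at h4
      omega
    have h8 : ∀ {A B : Subgroup G} (q : Pair A B T), q.h₁.c ≠ 1 → 8 ≤ Nat.card q.h₁.E := by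
      intro A B q hqc
      have hlt : q.h₁.V < q.h₁.E :=
        ⟨q.h₁.V_le_E, fun h => q.c_notMem_V hqc (h q.h₁.c_mem_E)⟩
      obtain ⟨k, hk⟩ := q.h₁.isPGroup_E.exists_card_eq
      have h4 := Set.Finite.card_lt_card (Set.toFinite _) hlt
      rw [show Nat.card (q.h₁.V : Set G) = 4 from q.h₁.card_V,
        show Nat.card (q.h₁.E : Set G) = 2 ^ k from hk] at h4
      rw [hk]
      have : 3 ≤ k := by
        by_contra hh
        have : 2 ^ k ≤ 2 ^ 2 := Nat.pow_le_pow_right (by norm_num) (by omega)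
        omega
      calc 8 = 2 ^ 3 := by norm_num
        _ ≤ _ := Nat.pow_le_pow_right (by norm_num) this
    have hTgen : ∀ t ∈ T, t ∈ p.h₁.E ⊔ p.h₂.E := fun t ht => by
      rcases p.T_cases hc ht with h | h
      · exact sup_le_sup p.h₁.V_le_E p.h₂.V_le_E h
      · have := mul_mem (sup_le_sup p.h₁.V_le_E p.h₂.V_le_E h) (mem_sup_left (inv_mem p.h₁.c_mem_E))
        rwa [mul_inv_cancel_right] at this
    have hmapT : T.map (MulAut.conj g).toMonoidHom ≤ T := by
      refine (map_mono (fun t ht => hTgen t ht : T ≤ p.h₁.E ⊔ p.h₂.E)).trans ?_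
      rw [Subgroup.map_sup]
      exact sup_le (himg _ p.E_le_T (fun e => p.h₁.E_sq) (h8 p hc))
        (himg _ p.swap.E_le_T (fun e => p.h₂.E_sq) (h8 p.swap hc₂))
    exact mem_normalizer_iff_map_conj_eq.2 (eq_of_le_of_card_ge hmapT
      (card_map_of_injective (MulAut.conj g).injective).ge)
  set S' := (S : Subgroup G) with hS'
  have hnD : S' ≤ normalizer (D : Set G) := fun s hs => hDn s (hTn hs)
  haveI hDnormal : (D.subgroupOf S').Normal := (normal_subgroupOf_iff_le_normalizer (hDT.trans hTS)).2 hnD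
  have hTi : ∀ s ∈ S', s ∉ T → ∀ s' ∈ S', s' ∉ T → s * s' ∈ T := fun s hs h s' hs' h' =>
    p.normalizer_pair hc hc₂ (hTn hs) (hTn hs') h h'
  have hcnD : p.h₁.c ∉ D := hDdef ▸ p.c_notMem_D hc
  have hcl : ∀ t ∈ T, t ∈ D ∨ t * p.h₁.c ∈ D := fun t ht => hDdef ▸ p.T_cases hc ht
  have hyD : ∀ g : G, g * p.h₁.c * g⁻¹ ∉ D := fun g => hDdef ▸ p.conj_notMem_D hc g
  -- the relative index of `D` in the Sylow subgroup
  have hDS : D.relIndex T = 2 := by
    rw [Subgroup.relIndex, Subgroup.index_eq_two_iff]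
    refine ⟨⟨p.h₁.c, p.c_mem_T⟩, fun t => ?_⟩
    rw [mem_subgroupOf, mem_subgroupOf]
    rcases hcl t t.2 with h | h
    · exact Or.inr ⟨h, fun h' => hcnD (by simpa using mul_mem (inv_mem h) h')⟩
    · exact Or.inl ⟨h, fun h' => hcnD (by simpa using mul_mem (inv_mem h') h)⟩
  have hTidx : T.relIndex S' ∣ 2 := by
    by_cases hall : S' ≤ T
    · rw [relIndex_eq_one.2 hall]; norm_num
    · obtain ⟨s, hs, hsT⟩ := SetLike.not_le_iff_exists.1 hall
      refine dvd_of_eq ?_
      rw [Subgroup.relIndex, Subgroup.index_eq_two_iff]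
      refine ⟨⟨s, hs⟩, fun t => ?_⟩
      rw [mem_subgroupOf, mem_subgroupOf]
      by_cases ht : (t : G) ∈ T
      · exact Or.inr ⟨ht, fun h' => hsT (by simpa using mul_mem (inv_mem ht) h')⟩
      · exact Or.inl ⟨hTi t t.2 ht s hs hsT, ht⟩
  by_cases hcase : ∃ s ∈ S', s ∉ T ∧ s * s ∈ D
  · obtain ⟨s, hs, hsT, hs2⟩ := hcase
    -- the sign of the action on the cosets of `D ⟨s⟩`
    obtain ⟨U, hUdef⟩ : ∃ U, U = D ⊔ zpowers s := ⟨_, rfl⟩
    have hDU : D ≤ U := hUdef ▸ le_sup_left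
    have hUS : U ≤ S' := hUdef ▸ sup_le (hDT.trans hTS) (zpowers_le.2 hs)
    have hUmem : ∀ u ∈ U, u ∈ D ∨ u * s⁻¹ ∈ D := by
      intro u hu
      have hzn : zpowers s ≤ normalizer (D : Set G) := zpowers_le.2 (hnD hs)
      rw [hUdef] at hu
      obtain ⟨d, hd, w, hw, e⟩ : u ∈ (D : Set G) * (zpowers s : Set G) := by
        rw [← Subgroup.coe_mul_of_right_le_normalizer_left _ _ hzn]; exact hu
      obtain ⟨k, rfl⟩ := hw
      rcases Int.even_or_odd' k with ⟨j, rfl | rfl⟩
      · left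
        rw [← e]
        show d * s ^ (2 * j) ∈ D
        rw [zpow_mul]
        exact mul_mem hd (zpow_mem (by rw [zpow_two]; exact hs2) _)
      · right
        rw [← e]
        show d * s ^ (2 * j + 1) * s⁻¹ ∈ D
        rw [zpow_add_one, zpow_mul]
        simp only [mul_assoc, mul_inv_cancel, mul_one]
        exact mul_mem hd (zpow_mem (by rw [zpow_two]; exact hs2) _)
    have hUT : ∀ u ∈ U, u ∈ T → u ∈ D := fun u hu huT => (hUmem u hu).resolve_right fun h => hsT (by
      have := mul_mem (inv_mem (hDT h)) huT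
      rwa [_root_.mul_inv_rev, inv_inv, mul_assoc, inv_mul_cancel, mul_one] at this)
    have hDi : D.relIndex U = 2 := by
      rw [Subgroup.relIndex, Subgroup.index_eq_two_iff]
      refine ⟨⟨s⁻¹, inv_mem (hUdef ▸ mem_sup_right (mem_zpowers s))⟩, fun u => ?_⟩
      rw [mem_subgroupOf, mem_subgroupOf]
      rcases hUmem u u.2 with h | h
      · exact Or.inr ⟨h, fun h' => hsT (inv_mem_iff.1 (hDT (by simpa using mul_mem (inv_mem h) h')))⟩
      · exact Or.inl ⟨h, fun h' => hsT (inv_mem_iff.1 (hDT (by simpa using mul_mem (inv_mem h') h)))⟩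
    have hcard : ∀ X : Subgroup G, D ≤ X → Nat.card X = Nat.card D * D.relIndex X := fun X hX => by
      rw [← relIndex_bot_left, ← relIndex_bot_left]
      exact (relIndex_mul_relIndex ⊥ D X bot_le hX).symm
    have hcardD : Nat.card D = 8 := by
      have h1 := hcard T hDT
      rw [hDS, p.card_T hc] at h1
      omega
    have hUS2 : U.relIndex S' = 2 := by
      have h1 := relIndex_mul_relIndex D U S' hDU hUS
      have h2 := relIndex_mul_relIndex D T S' hDT hTS
      have h3 : T.relIndex S' = 2 := ((Nat.dvd_prime Nat.prime_two).1 hTidx).resolve_left fun h =>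
        hsT (relIndex_eq_one.1 h hs)
      rw [hDi] at h1
      rw [hDS, h3] at h2
      omega
    have hUidx : U.index = 2 * (S : Subgroup G).index := by
      rw [← relIndex_mul_index hUS, hUS2]
    have hm : Odd (S : Subgroup G).index := Nat.not_even_iff_odd.1 fun he => S.not_dvd_index he.two_dvd
    have hP : centralizer ({p.h₁.c} : Set G) = P₁ := p.centralizer_c hc
    have h4 : 4 ∣ Nat.card {q : G ⧸ U // p.h₁.c • q = q} := by
      classical
      letI : MulAction P₁ {q : G ⧸ U // p.h₁.c • q = q} :=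
        { smul := fun a q => ⟨(a : G) • q.1, by
            rw [← mul_smul, p.c_central a.2, mul_smul, q.2]⟩
          one_smul := fun q => Subtype.ext (one_smul G q.1)
          mul_smul := fun a b q => Subtype.ext (mul_smul (a : G) (b : G) q.1) }
      letI : Fintype (Quotient (MulAction.orbitRel P₁ {q : G ⧸ U // p.h₁.c • q = q})) := Fintype.ofFinite _
      rw [Nat.card_congr (MulAction.selfEquivSigmaOrbits P₁ {q : G ⧸ U // p.h₁.c • q = q}), Nat.card_sigma]
      refine Finset.dvd_sum fun ω _ => ?_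
      obtain ⟨q, rfl⟩ := Quotient.exists_rep ω
      obtain ⟨g, hg⟩ := QuotientGroup.mk_surjective q.1
      have hy : g⁻¹ * p.h₁.c * g ∈ U := by
        have h1 : ((p.h₁.c * g : G) : G ⧸ U) = (g : G ⧸ U) := by
          rw [hg]; conv_rhs => rw [← q.2, ← hg]
          rfl
        have := QuotientGroup.eq.1 h1.symm
        rwa [mul_assoc]
      set y := g⁻¹ * p.h₁.c * g with hydef
      have hyi : y * y = 1 := by
        rw [hydef, show g⁻¹ * p.h₁.c * g * (g⁻¹ * p.h₁.c * g) = g⁻¹ * (p.h₁.c * p.h₁.c) * g by group,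
          p.h₁.c_sq]
        group
      have hyT : y ∉ T := fun hyT => hyD g⁻¹ (by rw [inv_inv]; exact hUT y hy hyT)
      have hyN := hTn (hUS hy)
      obtain ⟨hy1, hy2⟩ := (p.normalizer_cases hc hyN).resolve_left hyT
      -- the stabiliser is small
      set St := MulAction.stabilizer P₁ q with hSt
      obtain ⟨W, hW⟩ : ∃ W, W = U ⊓ centralizer ({y} : Set G) := ⟨_, rfl⟩
      have hinj : ∀ a : St, g⁻¹ * ((a : P₁) : G) * g ∈ W := by
        rintro ⟨a, ha⟩
        have h1 : ((a : G) * g : G ⧸ U) = (g : G ⧸ U) := by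
          have := congrArg Subtype.val (MulAction.mem_stabilizer_iff.1 ha)
          change (a : G) • q.1 = q.1 at this
          rw [← hg] at this
          exact this
        have h2 := QuotientGroup.eq.1 h1.symm
        rw [← mul_assoc] at h2
        refine hW ▸ mem_inf.2 ⟨h2, mem_centralizer_singleton_iff.2 ?_⟩
        rw [hydef]
        calc g⁻¹ * (a : G) * g * (g⁻¹ * p.h₁.c * g) = g⁻¹ * ((a : G) * p.h₁.c) * g := by group
          _ = g⁻¹ * (p.h₁.c * (a : G)) * g := by rw [p.c_central a.2]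
          _ = _ := by group
      have hle : Nat.card St ≤ Nat.card W :=
        Nat.card_le_card_of_injective (fun a => (⟨_, hinj a⟩ : W)) fun a b h => by
          have h' := congrArg Subtype.val h
          simp only [mul_right_inj, mul_left_inj] at h'
          exact Subtype.ext (Subtype.ext h')
      have hW4 : Nat.card W ≤ 4 := by
        have h2 : Nat.card ↥(D ⊓ W) ≤ 2 := by
          have hsub : ((D ⊓ W : Subgroup G) : Set G) ⊆ {1, z} := fun d hd => by
            have hd' : d ∈ U ⊓ centralizer ({y} : Set G) := hW ▸ hd.2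
            have := mem_centralizer_singleton_iff.1 hd'.2
            rcases p.fix_D hc hc₂ hz1 hz2 hz hyi hy1 hy2 (p.fix_z hc hzT hz1 hz2 hz hyN) (hDdef ▸ hd.1)
              this.symm with e | e <;> simp [e]
          refine (Set.ncard_le_ncard hsub (Set.toFinite _)).trans ?_
          exact (Set.ncard_insert_le _ _).trans (by rw [Set.ncard_singleton])
        have h3 := relIndex_mul_relIndex ⊥ (D ⊓ W) W bot_le inf_le_right
        rw [relIndex_bot_left, relIndex_bot_left, inf_relIndex_right] at h3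
        have h5 : D.relIndex W ≤ 2 := hDi ▸ Subgroup.relIndex_le_of_le_right (hW ▸ inf_le_left)
          (by rw [hDi]; norm_num)
        rw [← h3]
        calc Nat.card ↥(D ⊓ W) * D.relIndex W ≤ 2 * 2 := Nat.mul_le_mul h2 h5
          _ = 4 := rfl
      have hprod : Nat.card (MulAction.orbit P₁ q) * Nat.card St = 48 := by
        rw [← p.h₁.card_eq hc, hSt, ← Nat.card_prod]
        exact Nat.card_congr (MulAction.orbitProdStabilizerEquivGroup P₁ q)
      have hst := hle.trans hW4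
      have hpos : 0 < Nat.card St := Nat.card_pos
      have hgoal : Nat.card (MulAction.orbit P₁ (Quotient.mk (MulAction.orbitRel P₁ _) q).out) =
          Nat.card (MulAction.orbit P₁ q) := by
        rw [MulAction.orbit_eq_iff.2 (MulAction.orbitRel_apply.1 (Quotient.mk_out q))]
      rw [hgoal]
      have hb := hprod
      interval_cases (Nat.card St) <;> omega
    obtain ⟨f, hf⟩ := not_mem_of_four_dvd_fixed U hm hUidx p.h₁.c_sq h4
    exact not_mem_closure_odd (fun a : ℤˣ => ⟨1, Int.units_sq a⟩) f hf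
  · push Not at hcase
    refine not_mem_closure_of_transfer S D ?_ (hTS p.c_mem_T) p.h₁.c_sq hcnD fun g hg => ?_
    · haveI := hDnormal
      obtain ⟨k, hk⟩ := (Nat.dvd_prime_pow Nat.prime_two).1
        (show D.relIndex S' ∣ 2 ^ 2 by
          rw [← relIndex_mul_relIndex D T S' hDT hTS, hDS, pow_two]
          exact Nat.mul_dvd_mul_left 2 hTidx)
      have hQ : IsMulCommutative (S' ⧸ D.subgroupOf S') := by
        rcases (show k = 0 ∨ k = 1 ∨ k = 2 by omega) with rfl | rfl | rfl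
        · haveI : Subsingleton (S' ⧸ D.subgroupOf S') :=
            (Nat.card_eq_one_iff_unique.1 (by rw [← Subgroup.index_eq_card]; exact hk.2)).1
          exact ⟨⟨fun a b => Subsingleton.elim _ _⟩⟩
        · haveI : IsCyclic (S' ⧸ D.subgroupOf S') := isCyclic_of_prime_card (p := 2)
            (by rw [← Subgroup.index_eq_card]; exact hk.2.trans (pow_one 2))
          exact IsCyclic.isMulCommutative
        · exact IsPGroup.isMulCommutative_of_card_eq_prime_sq (p := 2)
            (by rw [← Subgroup.index_eq_card]; exact hk.2)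
      intro x hx y hy
      have h1 := hQ.is_comm.comm (⟨x, hx⟩ : S') (⟨y, hy⟩ : S')
      have h2 : (((⟨x, hx⟩ : S') * ⟨y, hy⟩ * (⟨x, hx⟩ : S')⁻¹ * (⟨y, hy⟩ : S')⁻¹ : S') : S' ⧸ D.subgroupOf S') = 1 := by
        rw [QuotientGroup.mk_mul, QuotientGroup.mk_mul, QuotientGroup.mk_inv, QuotientGroup.mk_inv,
          QuotientGroup.mk_mul, h1]
        group
      exact mem_subgroupOf.1 ((QuotientGroup.eq_one_iff _).1 h2)
    · have hsq : g⁻¹ * p.h₁.c * g * (g⁻¹ * p.h₁.c * g) = 1 := by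
        rw [show g⁻¹ * p.h₁.c * g * (g⁻¹ * p.h₁.c * g) = g⁻¹ * (p.h₁.c * p.h₁.c) * g by group, p.h₁.c_sq]
        group
      have hgT : g⁻¹ * p.h₁.c * g ∈ T := by
        by_contra h
        exact hcase _ hg h (hsq ▸ one_mem D)
      rw [inv_eq_of_mul_eq_one_right p.h₁.c_sq]
      exact (hcl _ hgT).resolve_left fun h => hyD g⁻¹ (by rwa [inv_inv])

end Pair

end CfsgLib.ZNGroup
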