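import Cfsg.Agent.S0502
import Cfsg.Agent.Lib.ZNGroup.Local
import Cfsg.Agent.Lib.Perm.SelfCentCyc.Forward
import Cfsg.Agent.Lib.Invol.CyclicNormalAbelian
import Cfsg.Agent.Lib.Invol.NormalFourExists
import Cfsg.Agent.Lib.Invol.KleinPair

/-!
# The four groups of `R` are connected when the rank is at least three
-/

set_option autoImplicit false
set_option linter.unusedSectionVars false
set_option linter.style.haveILetI false

open Subgroup

namespace CfsgLib.ZNGroup

universe u

variable {X : Type u} [Group X] [Finite X]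

/-- A dihedral or semidihedral group has a cyclic subgroup of index two. -/
theorem exists_cyclic_index_two {P : Type*} [Group P]
    (h : (∃ n : ℕ, 2 ≤ n ∧ Nonempty (P ≃* DihedralGroup n)) ∨ Cfsg.IsQuasiDihedral P) :
    ∃ c : P, orderOf c * 2 = Nat.card P := by
  rcases h with ⟨n, hn, ⟨e⟩⟩ | ⟨n, -, hc, x, -, hx, -⟩
  · exact ⟨e.symm (DihedralGroup.r 1), by
      rw [MulEquiv.orderOf_eq, DihedralGroup.orderOf_r_one, Nat.card_congr e.toEquiv, DihedralGroup.nat_card,
        mul_comm]⟩
  · exact ⟨x, by rw [hx, hc, pow_succ]⟩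

/-- With a cyclic subgroup of index two the rank is at most two. -/
theorem card_le_four_of_cyclic {P : Type*} [Group P] [Finite P] {c : P} (hc : orderOf c * 2 = Nat.card P)
    (E : Subgroup P) (hE : ∀ a ∈ E, a * a = 1) : Nat.card E ≤ 4 := by
  have hi : (zpowers c).index = 2 := by
    have h1 := card_mul_index (zpowers c)
    rw [Nat.card_zpowers, ← hc] at h1
    exact Nat.eq_of_mul_eq_mul_left (orderOf_pos c) h1
  haveI := Subgroup.normal_of_index_eq_two hi
  have h2 : (zpowers c).relIndex E ∣ 2 := hi ▸ relIndex_dvd_index_of_normal (zpowers c) E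
  have h3 : Nat.card ↥(zpowers c ⊓ E) ≤ 2 := by
    haveI : IsCyclic ↥(zpowers c) := inferInstance
    haveI : IsCyclic ↥(zpowers c ⊓ E) := isCyclic_of_injective
      (Subgroup.inclusion (inf_le_left : zpowers c ⊓ E ≤ zpowers c)) (Subgroup.inclusion_injective _)
    rw [← IsCyclic.exponent_eq_card]
    exact Nat.le_of_dvd two_pos (Monoid.exponent_dvd_of_forall_pow_eq_one fun a => Subtype.ext (by
      rw [pow_two]; exact hE a a.2.2))
  have h4 := relIndex_mul_relIndex ⊥ (zpowers c ⊓ E) E bot_le inf_le_right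
  rw [relIndex_bot_left, relIndex_bot_left, inf_relIndex_right] at h4
  rw [← h4]
  exact Nat.mul_le_mul h3 (Nat.le_of_dvd two_pos h2)

/-- A central involution `z` of the Sylow subgroup `R` in a group without subgroup of index two, such that
for `t` in `R` no two-subgroup centralizing `z` and `t` is larger than the centralizer of `t` in `R`. -/
structure CentralBound (R : Sylow 2 X) (z : X) : Prop where
  ord : orderOf z = 2
  mem : z ∈ (R : Subgroup X)
  central : ∀ r ∈ (R : Subgroup X), r * z = z * r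
  noIndexTwo : ∀ M : Subgroup X, M.Normal → M.index ≠ 2
  bound : ∀ t ∈ (R : Subgroup X), ∀ T : Subgroup X, IsPGroup 2 T → (∀ x ∈ T, x * z = z * x ∧ x * t = t * x) →
    Nat.card T ≤ Nat.card ↥((R : Subgroup X) ⊓ centralizer ({t} : Set X))

/-- A two-closed centralizer gives the bound. -/
theorem ClosedCentral.centralBound {R : Sylow 2 X} {z : X} (h : ClosedCentral R z) : CentralBound R z :=
  { ord := h.ord
    mem := h.mem
    central := h.central
    noIndexTwo := h.noIndexTwo
    bound := fun _ _ _ hT hTz => card_le_of_le (le_inf (h.le_sylow hT fun x hx => (hTz x hx).1)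
      fun x hx => mem_centralizer_singleton_iff.2 (hTz x hx).2) }

namespace CentralBound

variable {R : Sylow 2 X} {z : X} (h : CentralBound R z)
include h

theorem ne_one : z ≠ 1 := fun e => by
  have := h.ord
  rw [e, orderOf_one] at this
  omega

theorem sq : z * z = 1 := by rw [← pow_two, ← h.ord, pow_orderOf_eq_one]

theorem commute {r : X} (hr : r ∈ (R : Subgroup X)) : Commute r z := h.central r hr

/-- Thompson transfer: an involution outside an index two subgroup of `R` is fused into it. -/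
theorem transfer {Q : Subgroup X} (hQ : Q ≤ (R : Subgroup X)) (hi : Q.relIndex (R : Subgroup X) = 2)
    {u : X} (hu : u * u = 1) : ∃ g : X, g * u * g⁻¹ ∈ Q := by
  by_contra hno
  push Not at hno
  obtain ⟨M, hM, hM2, -⟩ := CfsgLib.Fusion.thompson_transfer R hQ hi (by rw [pow_two, hu]) hno
  exact h.noIndexTwo M hM hM2

/-- No involution of `R` is isolated from a normal four group in rank at least three. -/
theorem no_isolated {U : Subgroup X} (hUR : U ≤ (R : Subgroup X)) (hU4 : Nat.card U = 4)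
    (hU2 : ∀ x ∈ U, x * x = 1) (hzU : z ∈ U)
    (hUn : ∀ r ∈ (R : Subgroup X), ∀ x ∈ U, r * x * r⁻¹ ∈ U)
    {E : Subgroup X} (hER : E ≤ (R : Subgroup X)) (hEc : ∀ a ∈ E, ∀ b ∈ E, a * b = b * a)
    (hE2 : ∀ a ∈ E, a * a = 1) (hE8 : 4 < Nat.card E)
    {t : X} (htR : t ∈ (R : Subgroup X)) (ht : t * t = 1) (htU : ¬ ∀ x ∈ U, t * x = x * t)
    (hiso : ∀ v ∈ (R : Subgroup X), (∀ x ∈ U, v * x = x * v) → v * t = t * v → v * v = 1 → v = 1 ∨ v = z) :
    False := by
  classical
  haveI : Fact (Nat.Prime 2) := ⟨Nat.prime_two⟩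
  set C : Subgroup X := (R : Subgroup X) ⊓ centralizer (U : Set X) with hCdef
  have memC : ∀ {v : X}, v ∈ C ↔ v ∈ (R : Subgroup X) ∧ ∀ x ∈ U, v * x = x * v := fun {v} => by
    rw [hCdef, mem_inf, mem_centralizer_iff]
    exact ⟨fun hv => ⟨hv.1, fun x hx => (hv.2 x hx).symm⟩, fun hv => ⟨hv.1, fun x hx => (hv.2 x hx).symm⟩⟩
  have htC : t ∉ C := fun hh => htU (memC.1 hh).2
  have ht1 : t ≠ 1 := fun e => htC (e ▸ one_mem C)
  have htz : t ≠ z := fun e => htU fun x hx => by
    rw [e]; exact (h.central x (hUR hx)).symm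
  -- the four group
  obtain ⟨u, hu, hu1, huz⟩ : ∃ u ∈ U, u ≠ 1 ∧ u ≠ z := by
    by_contra hno
    push Not at hno
    have hle : U ≤ zpowers z := fun x hx => by
      by_cases hx1 : x = 1
      · exact hx1 ▸ one_mem _
      · exact hno x hx hx1 ▸ mem_zpowers z
    have := card_le_of_le hle
    rw [hU4, Nat.card_zpowers, h.ord] at this
    omega
  have hzu1 : z * u ≠ 1 := fun e => huz (by rw [← one_mul u, ← h.sq, mul_assoc, e, mul_one])
  have hlist : ∀ x ∈ U, x = 1 ∨ x = z ∨ x = u ∨ x = z * u :=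
    fun x hx => four_mem_list hU4 hzU hu h.ne_one hu1 (Ne.symm huz) hzu1 hx
  have hCof : ∀ {a : X}, a ∈ (R : Subgroup X) → (a ∈ C ↔ a * u * a⁻¹ = u) := by
    intro a ha
    refine ⟨fun hh => by rw [(memC.1 hh).2 u hu, mul_inv_cancel_right], fun e => memC.2 ⟨ha, fun x hx => ?_⟩⟩
    have hau : Commute a u := mul_inv_eq_iff_eq_mul.1 e
    rcases hlist x hx with rfl | rfl | rfl | rfl
    · exact (Commute.one_right a).eq
    · exact h.central a ha
    · exact hau.eq
    · exact (Commute.mul_right (h.commute ha) hau).eq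
  have hswap : ∀ {a : X}, a ∈ (R : Subgroup X) → a ∉ C → a * u * a⁻¹ = z * u := by
    intro a ha hac
    rcases hlist _ (hUn a ha u hu) with e | e | e | e
    · exact absurd (conj_eq_one_iff.1 e) hu1
    · exact absurd ((MulAut.conj a).injective (show MulAut.conj a u = MulAut.conj a z by
        simpa only [MulAut.conj_apply, h.central a ha, mul_inv_cancel_right] using e)) huz
    · exact absurd ((hCof ha).2 e) hac
    · exact e
  have hmul : ∀ {a b : X}, a ∈ (R : Subgroup X) → b ∈ (R : Subgroup X) → a ∉ C → b ∉ C → a * b ∈ C := by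
    intro a b ha hb hac hbc
    refine (hCof (mul_mem ha hb)).2 ?_
    calc a * b * u * (a * b)⁻¹ = a * (b * u * b⁻¹) * a⁻¹ := by group
      _ = (a * z * a⁻¹) * (a * u * a⁻¹) := by rw [hswap hb hbc]; group
      _ = u := by rw [h.central a ha, mul_inv_cancel_right, hswap ha hac, ← mul_assoc, h.sq, one_mul]
  have hrel : C.relIndex (R : Subgroup X) = 2 := by
    rw [relIndex, index_eq_two_iff]
    refine ⟨⟨t, htR⟩, fun b => ?_⟩
    simp only [mem_subgroupOf, coe_mul]
    by_cases hb : (b : X) ∈ C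
    · exact Or.inr ⟨hb, fun hh => htC (by simpa using mul_mem (inv_mem hb) hh)⟩
    · exact Or.inl ⟨hmul b.2 htR hb htC, hb⟩
  have hUU : ∀ a ∈ U, ∀ b ∈ U, a * b = b * a := fun a ha b hb => by
    have hcomm := IsPGroup.commutative_of_card_eq_prime_sq (p := 2) (G := U) (by rw [hU4]; norm_num)
    exact congrArg Subtype.val (hcomm ⟨a, ha⟩ ⟨b, hb⟩)
  -- an elementary group of order eight inside `C`
  obtain ⟨F, hFC, hFc, hF2, hF8⟩ : ∃ F : Subgroup X, F ≤ C ∧ (∀ a ∈ F, ∀ b ∈ F, a * b = b * a) ∧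
      (∀ a ∈ F, a * a = 1) ∧ 4 < Nat.card F := by
    set F := closure (((E ⊓ C : Subgroup X) : Set X) ∪ U) with hF
    have hUC : U ≤ C := fun x hx => memC.2 ⟨hUR hx, fun y hy => hUU x hx y hy⟩
    have hgen : ∀ a ∈ ((E ⊓ C : Subgroup X) : Set X) ∪ U, ∀ b ∈ ((E ⊓ C : Subgroup X) : Set X) ∪ U,
        a * b = b * a := by
      rintro a (ha | ha) b (hb | hb)
      · exact hEc a ha.1 b hb.1
      · exact (memC.1 ha.2).2 b hb
      · exact ((memC.1 hb.2).2 a ha).symm
      · exact (memC.1 (hUC ha)).2 b hb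
    have hFC : F ≤ C := (closure_le _).2 (by rintro a (ha | ha); exacts [ha.2, hUC ha])
    haveI hcm := Subgroup.isMulCommutative_closure hgen
    have hcom : ∀ a ∈ F, ∀ b ∈ F, a * b = b * a := fun a ha b hb =>
      congrArg Subtype.val (hcm.is_comm.comm ⟨a, ha⟩ ⟨b, hb⟩)
    have hsq : ∀ a ∈ F, a * a = 1 := by
      intro a ha
      induction ha using Subgroup.closure_induction with
      | mem y hy => rcases hy with hy | hy; exacts [hE2 y hy.1, hU2 y hy]
      | one => exact one_mul 1
      | mul a b ha' hb' e1 e2 =>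
        rw [show a * b * (a * b) = a * (b * a) * b by group, ← hcom a ha' b hb',
          show a * (a * b) * b = (a * a) * (b * b) by group, e1, e2, one_mul]
      | inv a _ e => rw [← mul_inv_rev, e, inv_one]
    refine ⟨F, hFC, hcom, hsq, ?_⟩
    by_contra hle
    push Not at hle
    have hUF : U ≤ F := fun x hx => subset_closure (Or.inr hx)
    have hEU : E ⊓ C ≤ U := by
      rw [eq_of_le_of_card_ge hUF (hle.trans hU4.ge)]
      exact fun x hx => subset_closure (Or.inl hx)
    have hi : C.relIndex E ≤ 2 := by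
      by_cases hEC : E ≤ C
      · rw [relIndex_eq_one.2 hEC]; omega
      · obtain ⟨a, ha, hac⟩ := SetLike.not_le_iff_exists.1 hEC
        refine le_of_eq ?_
        rw [relIndex, index_eq_two_iff]
        refine ⟨⟨a, ha⟩, fun b => ?_⟩
        simp only [mem_subgroupOf, coe_mul]
        by_cases hb : (b : X) ∈ C
        · exact Or.inr ⟨hb, fun hh => hac (by simpa using mul_mem (inv_mem hb) hh)⟩
        · exact Or.inl ⟨hmul (hER b.2) (hER ha) hb hac, hb⟩
    have h4 := relIndex_mul_relIndex ⊥ (E ⊓ C) E bot_le inf_le_left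
    rw [relIndex_bot_left, relIndex_bot_left, inf_relIndex_left] at h4
    rcases Nat.lt_or_ge (Nat.card ↥(E ⊓ C)) 3 with h3 | h3
    · have := Nat.mul_le_mul (Nat.le_of_lt_succ h3) hi; omega
    · obtain ⟨k, hk⟩ := (R.2.to_le ((inf_le_left : E ⊓ C ≤ E).trans hER)).exists_card_eq
      have hk2 : 2 ≤ k := by
        by_contra hh
        have := Nat.pow_le_pow_right two_pos (show k ≤ 1 by omega)
        omega
      have hge : Nat.card U ≤ Nat.card ↥(E ⊓ C) := by
        rw [hU4, hk]; exact le_trans (by norm_num) (Nat.pow_le_pow_right two_pos hk2)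
      have heq : E ⊓ C = U := eq_of_le_of_card_ge hEU hge
      have hEC : E ≤ C := fun e he => memC.2 ⟨hER he, fun x hx => hEc e he x ((heq.ge hx).1)⟩
      rw [inf_eq_left.2 hEC] at heq
      rw [heq, hU4] at hE8
      omega
  -- the centralizer of `t` in `R`
  set P : Subgroup X := (R : Subgroup X) ⊓ centralizer ({t} : Set X) with hP
  have memP : ∀ {v : X}, v ∈ P ↔ v ∈ (R : Subgroup X) ∧ v * t = t * v := fun {v} => by
    rw [hP, mem_inf, mem_centralizer_singleton_iff]
  have htP : t ∈ P := memP.2 ⟨htR, rfl⟩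
  have hzP : z ∈ P := memP.2 ⟨h.mem, (h.central t htR).symm⟩
  have hPsplit : ∀ v ∈ P, v ∈ C ∨ v * t ∈ C := fun v hv => by
    by_cases hvc : v ∈ C
    · exact Or.inl hvc
    · exact Or.inr (hmul (memP.1 hv).1 htR hvc htC)
  have hYsq : ∀ v ∈ P, v ∈ C → v * v = 1 → v = 1 ∨ v = z := fun v hv hvc h2 =>
    hiso v (memP.1 hv).1 (memC.1 hvc).2 (memP.1 hv).2 h2
  have hPinv : ∀ v ∈ P, v * v = 1 → v = 1 ∨ v = z ∨ v = t ∨ v = z * t := by
    intro v hv h2
    rcases hPsplit v hv with hc | hc
    · rcases hYsq v hv hc h2 with e | e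
      exacts [Or.inl e, Or.inr (Or.inl e)]
    · have hc2 : v * t * (v * t) = 1 := by
        rw [show v * t * (v * t) = v * (t * v) * t by group, ← (memP.1 hv).2,
          show v * (v * t) * t = (v * v) * (t * t) by group, h2, ht, one_mul]
      have e : v = v * t * t := by rw [mul_assoc, ht, mul_one]
      rcases hYsq _ (mul_mem hv htP) hc hc2 with e' | e'
      · exact Or.inr (Or.inr (Or.inl (by rw [e, e', one_mul])))
      · exact Or.inr (Or.inr (Or.inr (by rw [e, e'])))
  by_cases hy : ∀ v ∈ P, v * v = 1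
  · -- a self-centralizing four group
    let t' : (R : Subgroup X) := ⟨t, htR⟩
    let z' : (R : Subgroup X) := ⟨z, h.mem⟩
    have hto : orderOf t' = 2 := by
      rw [← Subgroup.orderOf_coe]; exact orderOf_eq_prime (by rw [pow_two]; exact ht) ht1
    have hzo : orderOf z' = 2 := by rw [← Subgroup.orderOf_coe]; exact h.ord
    have hcases := CfsgLib.Perm.SelfCentCyc.two_type R.2 hto hzo (Subtype.ext (h.central t htR))
      (fun e => htz (congrArg Subtype.val e).symm) fun x hxt _ => by
        have hxP : (x : X) ∈ P := memP.2 ⟨x.2, congrArg Subtype.val hxt.eq⟩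
        rcases hPinv _ hxP (hy _ hxP) with e | e | e | e
        · exact Or.inl (Subtype.ext e)
        · exact Or.inr (Or.inr (Or.inl (Subtype.ext e)))
        · exact Or.inr (Or.inl (Subtype.ext e))
        · exact Or.inr (Or.inr (Or.inr (Subtype.ext (e.trans (h.central t htR).symm))))
    have h8 : Nat.card E ≤ Nat.card (R : Subgroup X) := card_le_of_le hER
    rcases hcases with h4 | hcases
    · omega
    · obtain ⟨c, hc⟩ := exists_cyclic_index_two (P := (R : Subgroup X))
        (hcases.imp (fun ⟨n, hn, e⟩ => ⟨n, by omega, e⟩) id)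
      have := card_le_four_of_cyclic hc (E.subgroupOf (R : Subgroup X)) fun a ha =>
        Subtype.ext (by simpa using hE2 _ ha)
      rw [Nat.card_congr (subgroupOfEquivOfLe hER).toEquiv] at this
      omega
  push Not at hy
  obtain ⟨y, hyP, hy2⟩ := hy
  -- squares of `P` lie in `C`, so `z` is the only square involution
  have hsqC : ∀ v ∈ P, v * v ∈ C := fun v hv => by
    by_cases hvc : v ∈ C
    · exact mul_mem hvc hvc
    · exact hmul (memP.1 hv).1 (memP.1 hv).1 hvc hvc
  obtain ⟨w, hwP, hw⟩ : ∃ w ∈ P, w * w = z := by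
    obtain ⟨k, hk⟩ := R.2.exists_card_eq
    have hpow : ∃ i, y ^ 2 ^ i = 1 := ⟨k, by
      have h1 := orderOf_dvd_iff_pow_eq_one.1 (Subgroup.orderOf_dvd_natCard _ (memP.1 hyP).1)
      rwa [hk] at h1⟩
    have hi := Nat.find_spec hpow
    obtain ⟨i, hfind⟩ : ∃ i, Nat.find hpow = i + 2 := by
      refine ⟨Nat.find hpow - 2, ?_⟩
      have : 2 ≤ Nat.find hpow := by
        by_contra hlt
        interval_cases hq : Nat.find hpow
        · rw [pow_zero, pow_one] at hi
          exact hy2 (by rw [hi, one_mul])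
        · rw [pow_one, pow_two] at hi
          exact hy2 hi
      omega
    refine ⟨y ^ 2 ^ i, pow_mem hyP _, ?_⟩
    have hm : (y ^ 2 ^ i * y ^ 2 ^ i) * (y ^ 2 ^ i * y ^ 2 ^ i) = 1 := by
      rw [← hi, hfind, ← pow_add, ← pow_add]
      congr 1
      ring
    rcases hYsq _ (mul_mem (pow_mem hyP _) (pow_mem hyP _)) (hsqC _ (pow_mem hyP _)) hm with e | e
    · exfalso
      refine Nat.find_min hpow (m := i + 1) (by omega) ?_
      rw [pow_succ, pow_mul, pow_two]
      exact e
    · exact e
  have hNz : ∀ {g : X}, (∀ v ∈ P, g * v * g⁻¹ ∈ P) → g * z = z * g := by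
    intro g hg
    have hgz : g * z * g⁻¹ = (g * w * g⁻¹) * (g * w * g⁻¹) := by rw [← hw]; group
    have hm : g * z * g⁻¹ * (g * z * g⁻¹) = 1 := by
      rw [show g * z * g⁻¹ * (g * z * g⁻¹) = g * (z * z) * g⁻¹ by group, h.sq, mul_one, mul_inv_cancel]
    rcases hYsq _ (hg z hzP) (hgz ▸ hsqC _ (hg w hwP)) hm with e | e
    · exact absurd (conj_eq_one_iff.1 e) h.ne_one
    · exact mul_inv_eq_iff_eq_mul.1 e
  have hmax : ∀ T : Subgroup X, IsPGroup 2 T → P ≤ T → (∀ x ∈ T, x * t = t * x) → T ≤ P := by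
    intro T hT hPT hTt
    by_contra hne
    haveI := hT.isNilpotent
    obtain ⟨x, hxN, hxP⟩ := SetLike.exists_of_lt (Group.normalizerCondition_of_isNilpotent (G := T)
      (P.subgroupOf T) (lt_top_iff_ne_top.2 fun e => hne (subgroupOf_eq_top.1 e)))
    have hcx : ∀ v ∈ P, (x : X) * v * (x : X)⁻¹ ∈ P := fun v hv =>
      (mem_normalizer_iff.1 hxN ⟨v, hPT hv⟩).1 hv
    have hxz := hNz hcx
    set T₁ := T ⊓ centralizer ({z} : Set X) with hT₁
    have hPT₁ : P ≤ T₁ := le_inf hPT fun v hv => mem_centralizer_singleton_iff.2 (h.central v (memP.1 hv).1)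
    have hbd := h.bound t htR T₁ (hT.to_le inf_le_left)
      fun y hy => ⟨mem_centralizer_singleton_iff.1 hy.2, hTt y hy.1⟩
    exact hxP (eq_of_le_of_card_ge hPT₁ hbd ▸ (show (x : X) ∈ T₁ from ⟨x.2, mem_centralizer_singleton_iff.2 hxz⟩))
  -- the rank of `C(t)` is two
  have hrank : ∀ A : Subgroup X, (∀ a ∈ A, a * t = t * a) → (∀ a ∈ A, ∀ b ∈ A, a * b = b * a) →
      (∀ a ∈ A, a * a = 1) → Nat.card A ≤ 4 := by
    intro A hAt hAc hA2
    set K : Subgroup X := centralizer ({t} : Set X)
    have hPK : P ≤ K := inf_le_right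
    have hAK : A ≤ K := fun a ha => mem_centralizer_singleton_iff.2 (hAt a ha)
    have hPp : IsPGroup 2 (P.subgroupOf K) := (R.2.to_le (inf_le_left : P ≤ (R : Subgroup X))).comap_subtype
    obtain ⟨T, hT⟩ := hPp.exists_le_sylow
    have hTP : (T : Subgroup K).map K.subtype ≤ P := hmax _ (T.2.map _)
      (fun v hv => ⟨⟨v, hPK hv⟩, hT hv, rfl⟩) (by
        rintro _ ⟨a, -, rfl⟩; exact mem_centralizer_singleton_iff.1 a.2)
    have hAp : IsPGroup 2 A := fun a => ⟨1, Subtype.ext (by
      show (a : X) ^ 2 ^ 1 = 1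
      rw [pow_one, pow_two]; exact hA2 _ a.2)⟩
    obtain ⟨g, hg⟩ := CfsgLib.Invol.exists_conj_le_sylow (Q := A.subgroupOf K) hAp.comap_subtype T
    have hsub : A.map (MulAut.conj (g : X)).toMonoidHom ≤ P := by
      rintro _ ⟨a, ha, rfl⟩
      exact hTP ⟨_, hg ⟨a, hAK ha⟩ ha, rfl⟩
    rw [← card_map_of_injective (f := (MulAut.conj (g : X)).toMonoidHom) (MulAut.conj (g : X)).injective (K := A)]
    refine le_trans (Nat.card_mono (Set.toFinite ({1, z, t, z * t} : Set X)) fun a ha => ?_) ?_
    · obtain ⟨b, hb, rfl⟩ := ha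
      have h2 : MulAut.conj (g : X) b * MulAut.conj (g : X) b = 1 := by rw [← map_mul, hA2 b hb, map_one]
      simpa using hPinv _ (hsub ⟨b, hb, rfl⟩) h2
    · rw [Nat.card_coe_set_eq]
      refine (Set.ncard_insert_le _ _).trans ?_
      refine Nat.succ_le_succ ((Set.ncard_insert_le _ _).trans ?_)
      refine Nat.succ_le_succ ((Set.ncard_insert_le _ _).trans ?_)
      rw [Set.ncard_singleton]
  -- transfer
  obtain ⟨g, hg⟩ := h.transfer (inf_le_left : C ≤ (R : Subgroup X)) hrel ht
  set s := g * t * g⁻¹ with hs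
  have hbig : ∀ A : Subgroup X, (∀ a ∈ A, a * s = s * a) → (∀ a ∈ A, ∀ b ∈ A, a * b = b * a) →
      (∀ a ∈ A, a * a = 1) → Nat.card A ≤ 4 := by
    intro A hAs hAc hA2
    rw [← card_map_of_injective (f := (MulAut.conj g⁻¹).toMonoidHom) (MulAut.conj g⁻¹).injective (K := A)]
    refine hrank _ ?_ ?_ ?_
    · rintro _ ⟨a, ha, rfl⟩
      show MulAut.conj g⁻¹ a * t = t * MulAut.conj g⁻¹ a
      rw [show t = MulAut.conj g⁻¹ s by simp [hs, mul_assoc], ← map_mul, ← map_mul, hAs a ha]
    · rintro _ ⟨a, ha, rfl⟩ _ ⟨b, hb, rfl⟩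
      rw [← map_mul, ← map_mul, hAc a ha b hb]
    · rintro _ ⟨a, ha, rfl⟩
      rw [← map_mul, hA2 a ha, map_one]
  have hs2 : s * s = 1 := by
    rw [hs, show g * t * g⁻¹ * (g * t * g⁻¹) = g * (t * t) * g⁻¹ by group, ht, mul_one, mul_inv_cancel]
  by_cases hsU : s ∈ U
  · exact absurd (hbig F (fun a ha => (memC.1 (hFC ha)).2 s hsU) hFc hF2) (not_le.2 hF8)
  · set A := closure ((U : Set X) ∪ {s}) with hA
    have hgen : ∀ a ∈ (U : Set X) ∪ {s}, ∀ b ∈ (U : Set X) ∪ {s}, a * b = b * a := by
      rintro a (ha | rfl) b (hb | rfl)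
      · exact hUU a ha b hb
      · exact ((memC.1 hg).2 a ha).symm
      · exact (memC.1 hg).2 b hb
      · rfl
    haveI hcm := Subgroup.isMulCommutative_closure hgen
    have hcom : ∀ a ∈ A, ∀ b ∈ A, a * b = b * a := fun a ha b hb =>
      congrArg Subtype.val (hcm.is_comm.comm ⟨a, ha⟩ ⟨b, hb⟩)
    have hsA : s ∈ A := subset_closure (Or.inr rfl)
    have hle := hbig A (fun a ha => hcom a ha s hsA) hcom (fun a ha => by
      induction ha using Subgroup.closure_induction with
      | mem y hy => rcases hy with hy | rfl; exacts [hU2 y hy, hs2]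
      | one => exact one_mul 1
      | mul a b ha' hb' e1 e2 =>
        rw [show a * b * (a * b) = a * (b * a) * b by group, ← hcom a ha' b hb',
          show a * (a * b) * b = (a * a) * (b * b) by group, e1, e2, one_mul]
      | inv a _ e => rw [← mul_inv_rev, e, inv_one])
    exact hsU (eq_of_le_of_card_ge (fun x hx => subset_closure (Or.inl hx) : U ≤ A) (hle.trans hU4.ge) ▸ hsA)

/-- In rank at least three the four groups of `R` are connected. -/
theorem isFourConnected (hrank : ¬ Cfsg.PRankLE 2 2 X) : Cfsg.IsFourConnected ↥(R : Subgroup X) := by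
  classical
  haveI : Fact (Nat.Prime 2) := ⟨Nat.prime_two⟩
  obtain ⟨E, hER, hEc, hE2, hE8⟩ : ∃ E : Subgroup X, E ≤ (R : Subgroup X) ∧
      (∀ a ∈ E, ∀ b ∈ E, a * b = b * a) ∧ (∀ a ∈ E, a * a = 1) ∧ 4 < Nat.card E := by
    unfold Cfsg.PRankLE at hrank
    push Not at hrank
    obtain ⟨A, hA, hA2, hcard⟩ := hrank
    obtain ⟨g, hg⟩ := CfsgLib.Invol.exists_conj_le_sylow (Q := A)
      (fun a => ⟨1, Subtype.ext (by rw [pow_one]; exact hA2 a a.2)⟩) R
    refine ⟨A.map (MulAut.conj g).toMonoidHom, ?_, ?_, ?_, ?_⟩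
    · rintro _ ⟨a, ha, rfl⟩; exact hg a ha
    · rintro _ ⟨a, ha, rfl⟩ _ ⟨b, hb, rfl⟩
      rw [← map_mul, ← map_mul, show a * b = b * a from congrArg Subtype.val (hA.is_comm.comm ⟨a, ha⟩ ⟨b, hb⟩)]
    · rintro _ ⟨a, ha, rfl⟩
      rw [← map_mul, ← pow_two, hA2 a ha, map_one]
    · rw [card_map_of_injective (MulAut.conj g).injective]
      simpa using hcard
  have hRp : IsPGroup 2 (R : Subgroup X) := R.2
  -- a normal four group
  obtain ⟨U, hUn, hU4, hU2⟩ : ∃ U : Subgroup (R : Subgroup X), U.Normal ∧ Nat.card U = 4 ∧ ∀ x ∈ U, x ^ 2 = 1 := by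
    by_cases hB : ∃ B : Subgroup (R : Subgroup X), B.Normal ∧ IsMulCommutative B ∧ ¬ IsCyclic B
    · obtain ⟨B, h1, h2, h3⟩ := hB
      exact CfsgLib.Invol.exists_normal_four_of_abelian hRp h1 h2 h3
    push Not at hB
    exfalso
    have hsq : ∀ a ∈ E.subgroupOf (R : Subgroup X), a * a = 1 := fun a ha => Subtype.ext (by simpa using hE2 _ ha)
    have hcardE : Nat.card (E.subgroupOf (R : Subgroup X)) = Nat.card E :=
      Nat.card_congr (subgroupOfEquivOfLe hER).toEquiv
    obtain hc | ⟨-, k, r, e, a, b, -, F, -⟩ := CfsgLib.Invol.cyclic_or_std hRp hB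
    · haveI := hc
      haveI : IsCyclic (E.subgroupOf (R : Subgroup X)) := inferInstance
      have := Nat.le_of_dvd two_pos (Monoid.exponent_dvd_of_forall_pow_eq_one
        fun a : E.subgroupOf (R : Subgroup X) => Subtype.ext (by rw [pow_two]; exact hsq a a.2))
      rw [IsCyclic.exponent_eq_card] at this
      omega
    · have := card_le_four_of_cyclic (c := a) (by rw [F.ord, F.card, mul_comm]) _ hsq
      omega
  haveI := hUn
  let z' : (R : Subgroup X) := ⟨z, h.mem⟩
  have hzo : orderOf z' = 2 := by rw [← Subgroup.orderOf_coe]; exact h.ord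
  have hzc : ∀ x : (R : Subgroup X), Commute x z' := fun x => Subtype.ext (h.central x x.2)
  have hUc : ∀ a ∈ U, ∀ b ∈ U, a * b = b * a := fun a ha b hb => by
    have hcomm := IsPGroup.commutative_of_card_eq_prime_sq (p := 2) (G := U) (by rw [hU4]; norm_num)
    exact congrArg Subtype.val (hcomm ⟨a, ha⟩ ⟨b, hb⟩)
  by_cases hzU : z' ∈ U
  swap
  · -- a normal elementary group of order eight
    set W := closure ((U : Set (R : Subgroup X)) ∪ {z'}) with hW
    haveI hcm : IsMulCommutative W := Subgroup.isMulCommutative_closure (by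
      rintro a (ha | rfl) b (hb | rfl)
      exacts [hUc a ha b hb, (hzc a).eq, (hzc b).symm.eq, rfl])
    haveI : W.Normal := ⟨fun w hw g => by
      induction hw using Subgroup.closure_induction with
      | mem y hy =>
        refine subset_closure ?_
        rcases hy with hy | rfl
        · exact Or.inl (hUn.conj_mem y hy g)
        · exact Or.inr (by rw [(hzc g).eq, mul_inv_cancel_right]; rfl)
      | one => rw [mul_one, mul_inv_cancel]; exact one_mem _
      | mul a b _ _ ha hb => simpa [mul_assoc] using mul_mem ha hb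
      | inv a _ ha => simpa [mul_assoc] using inv_mem ha⟩
    refine Cfsg.Agent.S0502.result hRp W hcm (fun w hw => ?_) ?_
    · induction hw using Subgroup.closure_induction with
      | mem y hy =>
        rcases hy with hy | rfl
        exacts [hU2 y hy, Subtype.ext (by push_cast; rw [pow_two]; exact h.sq)]
      | one => exact one_pow 2
      | mul a b ha hb e1 e2 =>
        rw [(show Commute a b from congrArg Subtype.val (hcm.is_comm.comm ⟨a, ha⟩ ⟨b, hb⟩)).mul_pow, e1, e2, one_mul]
      | inv a _ e => rw [inv_pow, e, inv_one]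
    · have hlt : U < W := lt_of_le_of_ne (fun x hx => subset_closure (Or.inl hx))
        fun e => by
          have hz'W : z' ∈ W := subset_closure (Or.inr rfl)
          rw [← e] at hz'W
          exact hzU hz'W
      obtain ⟨k, hk⟩ := (hRp.to_subgroup W).exists_card_eq
      have h4 : 4 < Nat.card W := hU4 ▸ Set.Finite.card_lt_card (Set.toFinite _) hlt
      rw [hk] at h4 ⊢
      refine le_trans (by norm_num : 8 ≤ 2 ^ 3) (Nat.pow_le_pow_right two_pos ?_)
      by_contra hh
      have := Nat.pow_le_pow_right two_pos (show k ≤ 2 by omega)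
      omega
  set Adj := fun A B : Subgroup (R : Subgroup X) => IsKleinFour A ∧ IsKleinFour B ∧ ∀ a ∈ A, ∀ b ∈ B, a * b = b * a
  have hUK : IsKleinFour U := by
    haveI : Nontrivial U := Finite.one_lt_card_iff_nontrivial.1 (by omega)
    exact ⟨hU4, (Monoid.exponent_eq_prime_iff (p := 2) Nat.prime_two).2 fun g hg =>
      orderOf_eq_prime (Subtype.ext (hU2 g g.2)) hg⟩
  have hpath : ∀ V : Subgroup (R : Subgroup X), IsKleinFour V → Relation.ReflTransGen Adj V U := by
    intro V hV
    have hVsq : ∀ a ∈ V, a * a = 1 := fun a ha => congrArg Subtype.val (IsKleinFour.mul_self (⟨a, ha⟩ : V))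
    have hVc : ∀ a ∈ V, ∀ b ∈ V, a * b = b * a := fun a ha b hb => by
      have hcomm := IsPGroup.commutative_of_card_eq_prime_sq (p := 2) (G := V) (by rw [hV.card_four]; norm_num)
      exact congrArg Subtype.val (hcomm ⟨a, ha⟩ ⟨b, hb⟩)
    by_cases hall : ∀ a ∈ V, ∀ x ∈ U, a * x = x * a
    · exact Relation.ReflTransGen.single ⟨hV, hUK, hall⟩
    push Not at hall
    obtain ⟨t, htV, x, hxU, htx⟩ := hall
    have hto : orderOf t = 2 := orderOf_eq_prime (by rw [pow_two]; exact hVsq t htV) fun e => htx (by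
      rw [e, one_mul, mul_one])
    -- a step through `⟨z, v⟩`
    have step : ∀ v : (R : Subgroup X), v * v = 1 → v ≠ 1 → v ≠ z' → (∀ y ∈ U, v * y = y * v) → v * t = t * v →
        ∀ W : Subgroup (R : Subgroup X), IsKleinFour W → (∀ a ∈ W, a * v = v * a) →
        Relation.ReflTransGen Adj W U := by
      intro v hv hv1 hvz hvU _ W hW hWv
      have hvo : orderOf v = 2 := orderOf_eq_prime (by rw [pow_two]; exact hv) hv1
      have hK := CfsgLib.Invol.isKleinFour_closure_pair hzo hvo (Ne.symm hvz) (hzc v).symm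
      refine Relation.ReflTransGen.head (⟨hW, hK, fun a ha b hb => ?_⟩ : Adj W (closure {z', v}))
        (Relation.ReflTransGen.single (⟨hK, hUK, fun b hb y hy => ?_⟩ : Adj (closure {z', v}) U))
      · refine (CfsgLib.Invol.commute_of_mem_closure ?_ hb).eq
        rintro y (rfl | rfl)
        exacts [hzc a, hWv a ha]
      · refine (CfsgLib.Invol.commute_of_mem_closure ?_ hb).symm.eq
        rintro w (rfl | rfl)
        exacts [hzc y, (hvU y hy).symm]
    by_cases hiso : ∃ v : (R : Subgroup X), v * v = 1 ∧ v ≠ 1 ∧ v ≠ z' ∧ (∀ y ∈ U, v * y = y * v) ∧ v * t = t * v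
    · obtain ⟨v, hv, hv1, hvz, hvU, hvt⟩ := hiso
      by_cases hVv : ∀ a ∈ V, a * v = v * a
      · exact step v hv hv1 hvz hvU hvt V hV hVv
      · have htz : t ≠ z' := fun e => htx (by rw [e, (hzc x).eq])
        have hK := CfsgLib.Invol.isKleinFour_closure_pair hzo hto (Ne.symm htz) (hzc t).symm
        refine Relation.ReflTransGen.head (⟨hV, hK, fun a ha b hb => ?_⟩ : Adj V _) (step v hv hv1 hvz hvU hvt _ hK ?_)
        · refine (CfsgLib.Invol.commute_of_mem_closure ?_ hb).eq
          rintro y (rfl | rfl)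
          exacts [hzc a, hVc a ha _ htV]
        · intro a ha
          refine ((CfsgLib.Invol.commute_of_mem_closure (g := v) ?_ ha).symm).eq
          rintro y (rfl | rfl)
          exacts [hzc v, hvt]
    · exfalso
      push Not at hiso
      refine h.no_isolated (U := U.map (R : Subgroup X).subtype) (map_subtype_le U)
        (by rw [card_map_of_injective (subtype_injective _), hU4]) ?_ ⟨z', hzU, rfl⟩ ?_ hER hEc hE2 hE8
        t.2 (congrArg Subtype.val (hVsq t htV)) ?_ ?_
      · rintro _ ⟨y, hy, rfl⟩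
        rw [← map_mul, ← pow_two, hU2 y hy, map_one]
      · rintro r hr _ ⟨y, hy, rfl⟩
        exact ⟨⟨r, hr⟩ * y * ⟨r, hr⟩⁻¹, hUn.conj_mem y hy _, rfl⟩
      · exact fun hh => htx (Subtype.ext (hh x ⟨x, hxU, rfl⟩))
      · intro v hvR hvU hvt hv2
        by_contra hne
        push Not at hne
        exact hiso ⟨v, hvR⟩ (Subtype.ext hv2) (fun e => hne.1 (congrArg Subtype.val e))
          (fun e => hne.2 (congrArg Subtype.val e)) (fun y hy => Subtype.ext (hvU y ⟨y, hy, rfl⟩))
          (Subtype.ext hvt)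
  have hsymm : ∀ {A B : Subgroup (R : Subgroup X)}, Relation.ReflTransGen Adj A B → Relation.ReflTransGen Adj B A := by
    intro A B hAB
    induction hAB with
    | refl => exact Relation.ReflTransGen.refl
    | tail _ hbc ih => exact Relation.ReflTransGen.head ⟨hbc.2.1, hbc.1, fun a ha b hb => (hbc.2.2 b hb a ha).symm⟩ ih
  intro V W hV hW
  exact (hpath V hV).trans (hsymm (hpath W hW))

end CentralBound

/-- In rank at least three the four groups of `R` are connected. -/
theorem ClosedCentral.isFourConnected {R : Sylow 2 X} {z : X} (h : ClosedCentral R z)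
    (hrank : ¬ Cfsg.PRankLE 2 2 X) : Cfsg.IsFourConnected ↥(R : Subgroup X) :=
  h.centralBound.isFourConnected hrank

end CfsgLib.ZNGroup
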