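import Cfsg.Agent.S0518
import Cfsg.Agent.Lib.ZNGroup.Inherit
import Cfsg.Agent.Lib.Perm.SelfCentCyc.Forward
import Cfsg.Agent.Lib.RankTwoFusion.Group
import Mathlib.GroupTheory.Perm.Fin
import Mathlib.Data.Fintype.Perm

/-!
# A maximal two-local symmetric group of degree four gives a Sylow subgroup of maximal class
-/

set_option autoImplicit false
set_option linter.unusedSectionVars false
set_option linter.style.haveILetI false

open Subgroup

namespace CfsgLib.ZNGroup

universe u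

variable {Y : Type u} [Group Y] [Finite Y]

private def kA : Equiv.Perm (Fin 4) := Equiv.swap 0 1 * Equiv.swap 2 3

private def kB : Equiv.Perm (Fin 4) := Equiv.swap 0 2 * Equiv.swap 1 3

private theorem klein_basic :
    kA * kA = 1 ∧ kB * kB = 1 ∧ kA ≠ 1 ∧ kB ≠ 1 ∧ kB ≠ kA ∧ kA * kB = kB * kA := by
  decide +kernel

private theorem klein_conj : ∀ g : Equiv.Perm (Fin 4),
    (g * kA * g⁻¹ = kA ∨ g * kA * g⁻¹ = kB ∨ g * kA * g⁻¹ = kA * kB) ∧
      (g * kB * g⁻¹ = kA ∨ g * kB * g⁻¹ = kB ∨ g * kB * g⁻¹ = kA * kB) := by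
  decide +kernel

private theorem klein_cent : ∀ g : Equiv.Perm (Fin 4),
    g * kA = kA * g → g * kB = kB * g → g = 1 ∨ g = kA ∨ g = kB ∨ g = kA * kB := by
  decide +kernel

/-- A Sylow subgroup of a group with a maximal two-local subgroup isomorphic to `S₄` has maximal class. -/
theorem dihedral_or_quasi {M : Subgroup Y} (hM : Cfsg.IsMaximalTwoLocal M)
    (e : M ≃* Equiv.Perm (Fin 4)) (P : Sylow 2 Y) :
    (∃ n : ℕ, 2 ≤ n ∧ Nonempty (↥(P : Subgroup Y) ≃* DihedralGroup n)) ∨
      Cfsg.IsQuasiDihedral ↥(P : Subgroup Y) := by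
  haveI : Fact (Nat.Prime 2) := ⟨Nat.prime_two⟩
  obtain ⟨hA, hB, hA1, hB1, hAB, hc⟩ := klein_basic
  set a : Y := ((e.symm kA : M) : Y) with ha
  set b : Y := ((e.symm kB : M) : Y) with hb
  have hinj : ∀ {p q : Equiv.Perm (Fin 4)}, ((e.symm p : M) : Y) = (e.symm q : M) → p = q :=
    fun h => e.symm.injective (Subtype.ext h)
  have hmap : ∀ p q : Equiv.Perm (Fin 4), ((e.symm (p * q) : M) : Y) = (e.symm p : M) * (e.symm q : M) :=
    fun p q => by rw [map_mul, coe_mul]
  have hone : ((e.symm 1 : M) : Y) = 1 := by rw [map_one, coe_one]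
  have hao : orderOf a = 2 := orderOf_eq_prime (by rw [pow_two, ha, ← hmap, hA, hone]) fun h =>
    hA1 (hinj (h.trans hone.symm))
  have hbo : orderOf b = 2 := orderOf_eq_prime (by rw [pow_two, hb, ← hmap, hB, hone]) fun h =>
    hB1 (hinj (h.trans hone.symm))
  have hab : Commute a b := by
    show a * b = b * a
    rw [ha, hb, ← hmap, ← hmap, hc]
  have hne : b ≠ a := fun h => hAB (hinj h)
  set V := closure ({a, b} : Set Y) with hV
  have hK := CfsgLib.Invol.isKleinFour_closure_pair hao hbo hne.symm hab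
  have hVp : IsPGroup 2 V := IsPGroup.of_card (n := 2) (by rw [hV, hK.card_four]; norm_num)
  have hVne : V ≠ ⊥ := fun h => by
    have h1 : a ∈ (⊥ : Subgroup Y) := h ▸ subset_closure (Set.mem_insert _ _)
    rw [mem_bot] at h1
    rw [h1, orderOf_one] at hao
    omega
  have hMN : M ≤ normalizer (V : Set Y) := by
    intro m hm
    obtain ⟨h1, h2⟩ := klein_conj (e ⟨m, hm⟩)
    have key : ∀ p, (e ⟨m, hm⟩ * p * (e ⟨m, hm⟩)⁻¹ = kA ∨ e ⟨m, hm⟩ * p * (e ⟨m, hm⟩)⁻¹ = kB ∨
        e ⟨m, hm⟩ * p * (e ⟨m, hm⟩)⁻¹ = kA * kB) → m * (e.symm p : M) * m⁻¹ ∈ V := by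
      intro p hp
      have e1 : m * ((e.symm p : M) : Y) * m⁻¹ = ((e.symm (e ⟨m, hm⟩ * p * (e ⟨m, hm⟩)⁻¹) : M) : Y) := by
        rw [map_mul, map_mul, map_inv, e.symm_apply_apply]
        rfl
      rw [e1]
      rcases hp with h | h | h <;> rw [h]
      · exact subset_closure (Set.mem_insert _ _)
      · exact subset_closure (Set.mem_insert_of_mem _ rfl)
      · rw [hmap]
        exact mul_mem (subset_closure (Set.mem_insert _ _)) (subset_closure (Set.mem_insert_of_mem _ rfl))
    have hle : V.map (MulAut.conj m).toMonoidHom ≤ V := by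
      rw [hV, MonoidHom.map_closure, closure_le]
      rintro _ ⟨y, rfl | rfl, rfl⟩
      exacts [key kA h1, key kB h2]
    rw [mem_normalizer_iff_map_conj_eq]
    refine eq_of_le_of_card_ge hle ?_
    rw [card_map_of_injective (MulAut.conj m).injective]
  have hNM : normalizer (V : Set Y) = M := hM.2 _ ⟨V, hVp, hVne, rfl⟩ hMN
  have hcent : ∀ x : Y, Commute x a → Commute x b → x = 1 ∨ x = a ∨ x = b ∨ x = a * b := by
    intro x hxa hxb
    have hxM : x ∈ M := by
      rw [← hNM]
      refine centralizer_le_normalizer _ (mem_centralizer_iff.2 fun y hy => ?_)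
      refine (CfsgLib.Invol.commute_of_mem_closure ?_ hy).symm.eq
      rintro w (rfl | rfl)
      exacts [hxa, hxb]
    have h1 : e ⟨x, hxM⟩ * kA = kA * e ⟨x, hxM⟩ := by
      apply e.symm.injective
      rw [map_mul, map_mul, e.symm_apply_apply]
      exact Subtype.ext hxa.eq
    have h2 : e ⟨x, hxM⟩ * kB = kB * e ⟨x, hxM⟩ := by
      apply e.symm.injective
      rw [map_mul, map_mul, e.symm_apply_apply]
      exact Subtype.ext hxb.eq
    have hx : x = ((e.symm (e ⟨x, hxM⟩) : M) : Y) := by rw [e.symm_apply_apply]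
    rcases klein_cent (e ⟨x, hxM⟩) h1 h2 with h | h | h | h <;> rw [h] at hx
    · exact Or.inl (hx.trans hone)
    · exact Or.inr (Or.inl hx)
    · exact Or.inr (Or.inr (Or.inl hx))
    · exact Or.inr (Or.inr (Or.inr (hx.trans (hmap kA kB))))
  obtain ⟨g, hg⟩ := CfsgLib.Invol.exists_conj_le_sylow hVp P
  let f := MulAut.conj g
  let a' : ↥(P : Subgroup Y) := ⟨f a, hg a (subset_closure (Set.mem_insert _ _))⟩
  let b' : ↥(P : Subgroup Y) := ⟨f b, hg b (subset_closure (Set.mem_insert_of_mem _ rfl))⟩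
  have hao' : orderOf a' = 2 := by rw [← Subgroup.orderOf_coe]; exact (MulEquiv.orderOf_eq f a).trans hao
  have hbo' : orderOf b' = 2 := by rw [← Subgroup.orderOf_coe]; exact (MulEquiv.orderOf_eq f b).trans hbo
  have hcases := CfsgLib.Perm.SelfCentCyc.two_type P.2 hao' hbo' (Subtype.ext (hab.map f).eq)
    (fun h => hne (f.injective (congrArg Subtype.val h))) fun x hxa hxb => by
      have h1 : Commute (f.symm x) a := by
        have := (show Commute (x : Y) (f a) from congrArg Subtype.val hxa.eq).map f.symm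
        simpa using this
      have h2 : Commute (f.symm x) b := by
        have := (show Commute (x : Y) (f b) from congrArg Subtype.val hxb.eq).map f.symm
        simpa using this
      have hx : (x : Y) = f (f.symm x) := (f.apply_symm_apply _).symm
      rcases hcent _ h1 h2 with h | h | h | h <;> rw [h] at hx
      · exact Or.inl (Subtype.ext (hx.trans (map_one f)))
      · exact Or.inr (Or.inl (Subtype.ext hx))
      · exact Or.inr (Or.inr (Or.inl (Subtype.ext hx)))
      · exact Or.inr (Or.inr (Or.inr (Subtype.ext (hx.trans (map_mul f a b)))))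
  rcases hcases with h4 | ⟨n, hn, hd⟩ | hq
  · left
    refine ⟨2, le_rfl, CfsgLib.RankTwoFusion.klein_dihedral h4 fun x => ?_⟩
    rcases CfsgLib.Perm.SelfCentCyc.four_list h4 hao' hbo' (Subtype.ext (hab.map f).eq)
      (fun h => hne (f.injective (congrArg Subtype.val h))) x with h | h | h | h <;> rw [h]
    · exact one_pow 2
    · exact orderOf_dvd_iff_pow_eq_one.1 (dvd_of_eq hao')
    · exact orderOf_dvd_iff_pow_eq_one.1 (dvd_of_eq hbo')
    · rw [(show Commute a' b' from Subtype.ext (hab.map f).eq).mul_pow,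
        orderOf_dvd_iff_pow_eq_one.1 (dvd_of_eq hao'), orderOf_dvd_iff_pow_eq_one.1 (dvd_of_eq hbo'), one_mul]
  · exact Or.inl ⟨n, by omega, hd⟩
  · exact Or.inr hq

/-- A ZN-group of characteristic two type without strongly embedded subgroup: the Sylow subgroups of `O²`
have maximal class. -/
theorem residual_shape (hL : Cfsg.IsCharacteristicTwoType Y) (hO : Cfsg.pCore 2 Y = ⊥)
    (hN : ∀ N : Subgroup Y, Cfsg.IsTwoLocal N → Group.IsSolvable N)
    (hZ : ∀ S : Sylow 2 Y, centralizer {z : Y | z ∈ (S : Subgroup Y) ∧ z ^ 2 = 1 ∧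
      ∀ s ∈ (S : Subgroup Y), s * z = z * s} ≤ normalizer ((S : Subgroup Y) : Set Y))
    (P : Sylow 2 ↥(Cfsg.pResidual 2 Y)) :
    (∃ K : Subgroup Y, Cfsg.IsStronglyEmbedded K) ∨
      ((∃ n : ℕ, 2 ≤ n ∧ Nonempty (↥(P : Subgroup ↥(Cfsg.pResidual 2 Y)) ≃* DihedralGroup n)) ∨
        Cfsg.IsQuasiDihedral ↥(P : Subgroup ↥(Cfsg.pResidual 2 Y))) := by
  rcases Cfsg.Agent.S0518.result hL hO hN hZ (Cfsg.pResidual 2 Y) pResidual_eq_odd with
    h | ⟨M₁, -, -, hM₁, -, ⟨e⟩, -, -⟩
  · exact Or.inl h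
  · exact Or.inr (dihedral_or_quasi hM₁ e P)

end CfsgLib.ZNGroup
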