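import Cfsg.Agent.Lib.ZNGroup.Shape
import Cfsg.Agent.Lib.Fusion.Sylow
import Cfsg.Agent.Lib.Fusion.Thompson
import Cfsg.Prelude.Def_JComponents

/-!
# Two maximal 2-locals of shape `S₄` (or `S₄ × 2`) with a common Sylow 2-subgroup
-/

set_option autoImplicit false
set_option linter.unusedSectionVars false
set_option linter.style.haveILetI false

open Subgroup
open scoped commutatorElement

namespace CfsgLib.ZNGroup

universe u

variable {G : Type u} [Group G] [Finite G]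

theorem normalizer_eq_of_max {P N : Subgroup G} (hP : Cfsg.IsMaximalTwoLocal P) (hN : IsPGroup 2 N)
    (hne : N ≠ ⊥) (hle : P ≤ normalizer (N : Set G)) : normalizer (N : Set G) = P :=
  hP.2 _ ⟨N, hN, hne, rfl⟩ hle

theorem le_of_normal_twoGroup {T P N : Subgroup G} (hs : Cfsg.IsSylowTwoIn T P) (hN : IsPGroup 2 N)
    (hNP : N ≤ P) (hle : P ≤ normalizer (N : Set G)) : N ≤ T := by
  haveI := Fact.mk Nat.prime_two
  have h := CfsgLib.Fusion.eq_of_le_of_isPGroup_of_not_dvd_relIndex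
    (hN.to_sup_of_normal_left' hs.2.1 (hs.1.trans hle)) (le_sup_right : T ≤ N ⊔ T)
    (sup_le hNP hs.1) hs.2.2.not_two_dvd_nat
  exact le_sup_left.trans h.le

theorem card_of_range {X : Subgroup G} {t : S4 →* G} (ht : Function.Injective t) (hX : t.range = X) :
    Nat.card X = 24 := by
  rw [← hX, ← Nat.card_congr (MonoidHom.ofInjective ht).toEquiv, card_s4]

structure Pair (P₁ P₂ T : Subgroup G) : Type u where
  ne : P₁ ≠ P₂
  max₁ : Cfsg.IsMaximalTwoLocal P₁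
  max₂ : Cfsg.IsMaximalTwoLocal P₂
  syl₁ : Cfsg.IsSylowTwoIn T P₁
  syl₂ : Cfsg.IsSylowTwoIn T P₂
  h₁ : Shape P₁
  h₂ : Shape P₂

namespace Pair

variable {P₁ P₂ T : Subgroup G} (p : Pair P₁ P₂ T)

/-- The pair in the other order. -/
def swap : Pair P₂ P₁ T := ⟨p.ne.symm, p.max₂, p.max₁, p.syl₂, p.syl₁, p.h₂, p.h₁⟩

include p in
theorem normalizer_V : normalizer (p.h₁.V : Set G) = P₁ :=
  normalizer_eq_of_max p.max₁ p.h₁.isPGroup_V p.h₁.V_ne_bot p.h₁.le_normalizer_V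

theorem normalizer_E : normalizer (p.h₁.E : Set G) = P₁ :=
  normalizer_eq_of_max p.max₁ p.h₁.isPGroup_E p.h₁.E_ne_bot p.h₁.le_normalizer_E

theorem V_le_T : p.h₁.V ≤ T :=
  le_of_normal_twoGroup p.syl₁ p.h₁.isPGroup_V p.h₁.V_le p.h₁.le_normalizer_V

theorem E_le_T : p.h₁.E ≤ T :=
  le_of_normal_twoGroup p.syl₁ p.h₁.isPGroup_E inf_le_left p.h₁.le_normalizer_E

theorem E_ne : p.h₁.E ≠ p.h₂.E := fun e => p.ne (by
  have h1 := p.normalizer_E
  rw [e] at h1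
  exact h1.symm.trans p.swap.normalizer_E)

theorem V_ne : p.h₁.V ≠ p.h₂.V := fun e => p.ne (by
  have h1 := p.normalizer_V
  rw [e] at h1
  exact h1.symm.trans p.swap.normalizer_V)

theorem exists_noncomm : ∃ v ∈ p.h₁.V, ∃ w ∈ p.h₂.V, v * w ≠ w * v := by
  by_contra hno
  push Not at hno
  have hVE : ∀ {A B : Subgroup G} (q : Pair A B T), (∀ v ∈ q.h₁.V, ∀ w ∈ q.h₂.V, v * w = w * v) →
      q.h₁.E ≤ q.h₂.E := by
    intro A B q hq e he
    have hwE : ∀ w ∈ q.h₂.V, w ∈ q.h₁.E := fun w hw =>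
      mem_inf.2 ⟨q.syl₁.1 (q.swap.V_le_T hw), mem_centralizer_iff.2 fun v hv => hq v hv w hw⟩
    exact mem_inf.2 ⟨q.syl₂.1 (q.E_le_T he), mem_centralizer_iff.2 fun w hw => q.h₁.E_comm (hwE w hw) he⟩
  exact p.E_ne (le_antisymm (hVE p hno) (hVE p.swap fun v hv w hw => (hno w hw v hv).symm))

theorem exists_outside : ∃ a ∈ p.h₂.V, a ∈ P₁ ∧ a ∉ p.h₁.E := by
  obtain ⟨v, hv, w, hw, hne⟩ := p.exists_noncomm
  exact ⟨w, hw, p.syl₁.1 (p.swap.V_le_T hw), fun h => hne (mem_centralizer_iff.1 (mem_inf.1 h).2 v hv)⟩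

include p in
theorem inf_eq : P₁ ⊓ P₂ = T := by
  have hX : T ≤ P₁ ⊓ P₂ := le_inf p.syl₁.1 p.syl₂.1
  have h1 := relIndex_mul_relIndex T (P₁ ⊓ P₂) P₁ hX inf_le_left
  have hdvd : T.relIndex P₁ ∣ 3 := by
    have h48 : T.relIndex P₁ ∣ 2 ^ 4 * 3 := by
      refine (Dvd.intro_left (Nat.card T) ?_ : T.relIndex P₁ ∣ Nat.card P₁).trans ?_
      · rw [← relIndex_bot_left, ← relIndex_bot_left]
        exact relIndex_mul_relIndex ⊥ T P₁ bot_le p.syl₁.1
      · rcases p.h₁.card_cases with h | h <;> rw [h] <;> norm_num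
    exact ((Nat.coprime_two_right.2 p.syl₁.2.2).pow_right 4).dvd_of_dvd_mul_left h48
  rcases (Nat.dvd_prime Nat.prime_three).1 hdvd with h | h
  · exfalso
    haveI := Fact.mk Nat.prime_two
    have hT := le_antisymm p.syl₁.1 (relIndex_eq_one.1 h)
    obtain ⟨k, hk⟩ := p.syl₁.2.1.exists_card_eq
    have h3 : 3 ∣ 2 ^ k := by
      rw [← hk, hT]
      rcases p.h₁.card_cases with h | h <;> rw [h] <;> norm_num
    exact absurd (Nat.prime_three.dvd_of_dvd_pow h3) (by norm_num)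
  rw [h] at h1
  rcases (Nat.dvd_prime Nat.prime_three).1 (Dvd.intro _ h1 : T.relIndex (P₁ ⊓ P₂) ∣ 3) with h2 | h2
  · exact le_antisymm (relIndex_eq_one.1 h2) hX
  · exfalso
    rw [h2] at h1
    have h4 : (P₁ ⊓ P₂).relIndex P₁ = 1 := by omega
    exact p.ne (p.max₁.2 P₂ p.max₂.1 ((relIndex_eq_one.1 h4).trans inf_le_right)).symm

theorem exists_model {H : Subgroup G} (hH : ∀ g : G, Odd (orderOf g) → g ∈ H)
    (hc : p.h₁.c ∈ H → p.h₁.c = 1) :
    ∃ t : S4 →* G, Function.Injective t ∧ t.range = P₁ ⊓ H ∧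
      ∀ y, Equiv.Perm.sign y = 1 → t y = p.h₁.s y := by
  obtain ⟨a, ha, haP, haE⟩ := p.exists_outside
  exact p.h₁.inf_equiv hH hc haP (p.h₂.V_le_of_odd hH ha) (p.h₂.V_sq ha) haE

include p in
theorem card_inf_eight {H : Subgroup G} (hH : ∀ g : G, Odd (orderOf g) → g ∈ H) {t : S4 →* G}
    (ht : Function.Injective t) (hr : t.range = P₁ ⊓ H) : Nat.card ↥(T ⊓ H) = 8 := by
  haveI := Fact.mk Nat.prime_two
  obtain ⟨k, hk⟩ := (p.syl₁.2.1.to_le (inf_le_left : T ⊓ H ≤ T)).exists_card_eq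
  have h24 : 2 ^ k ∣ 24 := by
    rw [← hk, ← card_of_range ht hr]
    exact card_dvd_of_le (inf_le_inf_right H p.syl₁.1)
  have hlt : 4 < Nat.card ↥(T ⊓ H) := by
    rw [← p.h₁.card_V]
    refine Set.Finite.card_lt_card (Set.toFinite _) ⟨le_inf p.V_le_T (p.h₁.V_le_of_odd hH), fun h => ?_⟩
    obtain ⟨a, ha, -, haE⟩ := p.exists_outside
    exact haE (p.h₁.V_le_E (h (mem_inf.2 ⟨p.swap.V_le_T ha, p.h₂.V_le_of_odd hH ha⟩)))
  have hk3 : k ≤ 3 := by
    by_contra hk'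
    have : 2 ^ 4 ∣ 24 := (Nat.pow_dvd_pow 2 (by omega)).trans h24
    norm_num at this
  rw [hk] at hlt ⊢
  interval_cases k <;> simp_all

include p in
/-- A normal 2-subgroup of the `S₄` part lies in the four-group. -/
theorem le_V_of_normal {H Y : Subgroup G} {t : S4 →* G} (ht : Function.Injective t) (hr : t.range = P₁ ⊓ H)
    (hs : ∀ y, Equiv.Perm.sign y = 1 → t y = p.h₁.s y) (hY : IsPGroup 2 Y) (hYX : Y ≤ P₁ ⊓ H)
    (hn : P₁ ⊓ H ≤ normalizer (Y : Set G)) : Y ≤ p.h₁.V := by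
  intro g hg
  obtain ⟨x, rfl⟩ : g ∈ t.range := hr ▸ hYX hg
  have hkill : ∀ w : S4, t w ∈ Y → w ^ 3 = 1 → w = 1 := by
    intro w hw hw3
    obtain ⟨j, hj⟩ := hY ⟨t w, hw⟩
    have h2 : w ^ 2 ^ j = 1 := ht (by
      rw [map_pow, map_one]
      exact congrArg Subtype.val hj)
    exact orderOf_eq_one_iff.1 (Nat.eq_one_of_dvd_coprimes
      (Nat.Coprime.pow_left j (by decide : Nat.Coprime 2 3))
      (orderOf_dvd_of_pow_eq_one h2) (orderOf_dvd_of_pow_eq_one hw3))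
  by_cases hx : x ∈ k4
  · exact ⟨x, hx, (hs x (k4_sign x hx)).symm⟩
  · exfalso
    rcases outside_k4 x hx with h3 | ⟨y, h3, hne⟩
    · exact hx (hkill x hg h3 ▸ one_mem k4)
    · refine hne (hkill _ ?_ h3)
      rw [map_mul, map_mul, map_mul, map_inv]
      exact mul_mem hg ((mem_normalizer_iff.1 (hn (hr ▸ ⟨y, rfl⟩ : t y ∈ P₁ ⊓ H)) (t x)).1 hg)

include p in
/-- The `S₄` part is a maximal 2-local of any subgroup containing the elements of odd order. -/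
theorem isMaximalTwoLocal_inf {H : Subgroup G} (hH : ∀ g : G, Odd (orderOf g) → g ∈ H) {t : S4 →* G}
    (ht : Function.Injective t) (hr : t.range = P₁ ⊓ H)
    (hs : ∀ y, Equiv.Perm.sign y = 1 → t y = p.h₁.s y) :
    Cfsg.IsMaximalTwoLocal ((P₁ ⊓ H).subgroupOf H) := by
  haveI := Fact.mk Nat.prime_two
  have hVH := p.h₁.V_le_of_odd hH
  have hV : normalizer (p.h₁.V.subgroupOf H : Set H) = (P₁ ⊓ H).subgroupOf H := by
    rw [← subgroupOf_normalizer_eq hVH, p.normalizer_V, inf_subgroupOf_right]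
  refine ⟨⟨p.h₁.V.subgroupOf H, p.h₁.isPGroup_V.comap_subtype, fun h => p.h₁.V_ne_bot ?_, hV.symm⟩, ?_⟩
  · rw [subgroupOf_eq_bot] at h
    exact h.eq_bot_of_le hVH
  rintro N ⟨R, hR, hRne, rfl⟩ hle
  set R' := R.map H.subtype with hR'def
  have hR' : IsPGroup 2 R' := hR.map _
  have hR'H : R' ≤ H := map_subtype_le R
  have hn : P₁ ⊓ H ≤ normalizer (R' : Set G) := fun g hg => by
    have h1 : (⟨g, hg.2⟩ : H) ∈ normalizer (R : Set H) := hle (show g ∈ P₁ ⊓ H from hg)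
    exact Subgroup.le_normalizer_map H.subtype (mem_map_of_mem H.subtype h1)
  have hVX : p.h₁.V ≤ P₁ ⊓ H := le_inf p.h₁.V_le hVH
  set Y := R' ⊔ p.h₁.V with hYdef
  have hY : IsPGroup 2 Y := hR'.to_sup_of_normal_left' p.h₁.isPGroup_V (hVX.trans hn)
  have hYn : P₁ ⊓ H ≤ normalizer (Y : Set G) :=
    (le_inf hn ((inf_le_left : P₁ ⊓ H ≤ P₁).trans p.h₁.le_normalizer_V)).trans
      (normalizer_inf_normalizer_le_normalizer_sup _ _)
  have hYP : Y ⊓ (P₁ ⊓ H) ≤ p.h₁.V := p.le_V_of_normal ht hr hs (hY.to_le inf_le_left) inf_le_right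
    ((le_inf hYn le_normalizer).trans (Subgroup.inf_normalizer_le_normalizer_inf))
  have hYV : Y = p.h₁.V := by
    by_contra hne
    haveI := hY.isNilpotent
    have hlt := CfsgLib.Fusion.lt_inf_normalizer (le_sup_right : p.h₁.V ≤ Y) (Ne.symm hne)
    refine hlt.not_ge fun g hg => hYP (mem_inf.2 ⟨hg.1, ?_, (sup_le hR'H hVH) hg.1⟩)
    rw [← p.normalizer_V]
    exact hg.2
  have hRV : R' ≤ p.h₁.V := le_sup_left.trans hYV.le
  have heq : R' = p.h₁.V := by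
    refine le_antisymm hRV fun w hw => ?_
    obtain ⟨r, hr', hr1⟩ := (Subgroup.ne_bot_iff_exists_ne_one).1 (show R' ≠ ⊥ from fun h =>
      hRne ((map_eq_bot_iff_of_injective _ H.subtype_injective).1 h)) |> fun ⟨⟨r, h⟩, hne⟩ =>
        (⟨r, h, fun e => hne (Subtype.ext e)⟩ : ∃ r, r ∈ R' ∧ r ≠ 1)
    rcases eq_or_ne w 1 with rfl | hw1
    · exact one_mem _
    obtain ⟨x, hx, rfl⟩ := hRV hr'
    obtain ⟨y, hy, rfl⟩ := hw
    obtain ⟨g, hg, hgx⟩ := k4_transitive_even x hx y hy (fun e => hr1 (e ▸ map_one _)) (fun e => hw1 (e ▸ map_one _))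
    rw [← hgx, map_mul, map_mul, map_inv, ← hs g hg]
    exact (mem_normalizer_iff.1 (hn (hr ▸ ⟨g, rfl⟩ : t g ∈ P₁ ⊓ H)) _).1 hr'
  rw [← hV]
  congr 1
  rw [← heq, hR'def, subgroupOf, comap_map_eq_self_of_injective H.subtype_injective]

end Pair

end CfsgLib.ZNGroup
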