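import Cfsg.Agent.Lib.ZNGroup.WreathedCase
import Cfsg.Agent.Lib.ZNGroup.Connected
import Cfsg.Agent.Lib.RankTwoFusion.GroupCase
import Cfsg.Agent.Lib.Invol.BrauerSuzuki
import Cfsg.Agent.Lib.Fusion.Transfer
import Cfsg.Agent.Lib.CFun.IndexP
import Cfsg.Agent.S1141
import Cfsg.Agent.S0505
import Mathlib.FieldTheory.Finite.GaloisField

/-!
# Rank two: a strongly embedded subgroup, or a maximal class Sylow subgroup and characteristic two type
-/

set_option autoImplicit false
set_option linter.unusedSectionVars false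
set_option linter.style.haveILetI false

open Subgroup

namespace CfsgLib.ZNGroup

universe u

variable {X : Type u} [Group X] [Finite X]

theorem mem_normalizer_of_conj_mem {K : Subgroup X} {g : X} (hg : ∀ k ∈ K, g * k * g⁻¹ ∈ K) :
    g ∈ normalizer (K : Set X) := by
  rw [mem_normalizer_iff_map_conj_eq]
  refine eq_of_le_of_card_ge (by rintro _ ⟨k, hk, rfl⟩; exact hg k hk) ?_
  rw [card_map_of_injective (MulAut.conj g).injective]

namespace ClosedCentral

variable {R : Sylow 2 X} {z : X} (h : ClosedCentral R z)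
include h

/-- If the involutions of `R` are central the normalizer of `R` is strongly embedded. -/
theorem stronglyEmbedded_of_central (hr : Cfsg.PRankLE 2 2 X)
    (hall : ∀ t ∈ (R : Subgroup X), t * t = 1 → ∀ r ∈ (R : Subgroup X), r * t = t * r) :
    ∃ M : Subgroup X, Cfsg.IsStronglyEmbedded M := by
  classical
  haveI : Fact (Nat.Prime 2) := ⟨Nat.prime_two⟩
  set N := normalizer ((R : Subgroup X) : Set X)
  obtain ⟨g, hgR, hgne⟩ := h.exists_fused
  set w := g * z * g⁻¹ with hw
  have hw2 : w * w = 1 := by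
    rw [hw, show g * z * g⁻¹ * (g * z * g⁻¹) = g * (z * z) * g⁻¹ by group, h.sq, mul_one, mul_inv_cancel]
  have hw1 : w ≠ 1 := fun e => h.ne_one (conj_eq_one_iff.1 e)
  have hwc := hall w hgR hw2
  have hzw1 : z * w ≠ 1 := fun e => hgne (by rw [← one_mul w, ← h.sq, mul_assoc, e, mul_one])
  -- the involutions of `R`
  have hlist : ∀ t ∈ (R : Subgroup X), t * t = 1 → t = 1 ∨ t = z ∨ t = w ∨ t = z * w := by
    intro t ht ht2
    set U := closure ({z, w, t} : Set X) with hU
    have hgen : ∀ a ∈ ({z, w, t} : Set X), a ∈ (R : Subgroup X) ∧ a * a = 1 := by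
      rintro a (rfl | rfl | rfl)
      exacts [⟨h.mem, h.sq⟩, ⟨hgR, hw2⟩, ⟨ht, ht2⟩]
    haveI hcm : IsMulCommutative U := Subgroup.isMulCommutative_closure fun a ha b hb =>
      hall b (hgen b hb).1 (hgen b hb).2 a (hgen a ha).1
    have hcard := hr U hcm fun a ha => by
      induction ha using Subgroup.closure_induction with
      | mem y hy => rw [pow_two]; exact (hgen y hy).2
      | one => exact one_pow 2
      | mul a b ha hb e1 e2 =>
        rw [(show Commute a b from congrArg Subtype.val (hcm.is_comm.comm ⟨a, ha⟩ ⟨b, hb⟩)).mul_pow, e1, e2, one_mul]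
      | inv a _ e => rw [inv_pow, e, inv_one]
    have hsub : ({1, z, w, z * w} : Set X) ⊆ U := by
      have m1 : z ∈ U := subset_closure (by simp)
      have m2 : w ∈ U := subset_closure (by simp)
      rintro _ (rfl | rfl | rfl | rfl)
      exacts [one_mem U, m1, m2, mul_mem m1 m2]
    have e1 : z * w ≠ z := fun e => hw1 (mul_eq_left.1 e)
    have e2 : z * w ≠ w := fun e => h.ne_one (mul_eq_right.1 e)
    have heq : ({1, z, w, z * w} : Set X) = U := by
      refine Set.eq_of_subset_of_ncard_le hsub ?_ (Set.toFinite _)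
      rw [Set.ncard_insert_of_notMem (by simp [Ne.symm h.ne_one, Ne.symm hw1, Ne.symm hzw1]),
        Set.ncard_insert_of_notMem (by simp [Ne.symm hgne, Ne.symm e1]),
        Set.ncard_insert_of_notMem (by simp [Ne.symm e2]), Set.ncard_singleton]
      rw [← Nat.card_coe_set_eq]
      exact hcard.trans (by norm_num)
    have htU : t ∈ (U : Set X) := subset_closure (by simp)
    rw [← heq] at htU
    simpa using htU
  -- an element of odd order moving `z` to `w`
  have hcen : ∀ {t : X}, t ∈ (R : Subgroup X) → t * t = 1 → (R : Subgroup X) ≤ centralizer ({t} : Set X) :=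
    fun ht ht2 r hr => mem_centralizer_singleton_iff.2 (hall _ ht ht2 r hr)
  obtain ⟨n, hn, hnz⟩ := CfsgLib.Fusion.exists_normalizer_conj_eq_of_central R (hcen h.mem h.sq) g (hcen hgR hw2)
  obtain ⟨a, b, rfl, ha, hb, ⟨r, har⟩, hbo⟩ := CfsgLib.CFun.exists_parts (p := 2) n
  have haR : a ∈ (R : Subgroup X) := by
    obtain ⟨i, -, hi⟩ := (Nat.dvd_prime_pow Nat.prime_two).1 (orderOf_dvd_of_pow_eq_one har)
    have hap : IsPGroup 2 (zpowers a) := IsPGroup.of_card (n := i) (by rw [Nat.card_zpowers, hi])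
    have h1 : zpowers a ⊓ N = zpowers a ⊓ (R : Subgroup X) := hap.inf_normalizer_sylow R
    have h2 : a ∈ zpowers a ⊓ N := ⟨mem_zpowers a, zpowers_le.2 hn ha⟩
    rw [h1] at h2
    exact h2.2
  have hbN : b ∈ N := zpowers_le.2 hn hb
  have hbmem : ∀ t ∈ (R : Subgroup X), t * t = 1 → b * t * b⁻¹ ∈ (R : Subgroup X) ∧ (b * t * b⁻¹) * (b * t * b⁻¹) = 1 :=
    fun t ht ht2 => ⟨(mem_normalizer_iff.1 hbN t).1 ht, by
      rw [show b * t * b⁻¹ * (b * t * b⁻¹) = b * (t * t) * b⁻¹ by group, ht2, mul_one, mul_inv_cancel]⟩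
  have hbz : b * z * b⁻¹ = w := by
    have h1 := hbmem z h.mem h.sq
    have h2 := hall _ h1.1 h1.2 a haR
    rw [hw, ← hnz, show a * b * z * (a * b)⁻¹ = a * (b * z * b⁻¹) * a⁻¹ by group, h2, mul_inv_cancel_right]
  have hbw : b * w * b⁻¹ = z * w := by
    obtain ⟨h1, h2⟩ := hbmem w hgR hw2
    rcases hlist _ h1 h2 with e | e | e | e
    · exact absurd (conj_eq_one_iff.1 e) hw1
    · exfalso
      have hb2 : Commute (b * b) z := mul_inv_eq_iff_eq_mul.1
        (show b * b * z * (b * b)⁻¹ = z by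
          rw [show b * b * z * (b * b)⁻¹ = b * (b * z * b⁻¹) * b⁻¹ by group, hbz, e])
      obtain ⟨k, hk⟩ := Nat.coprime_two_left.1 hbo.symm
      have hbb : b = (b * b) ^ (k + 1) := by
        rw [← pow_two, ← pow_mul, show 2 * (k + 1) = orderOf b + 1 by omega, pow_succ, pow_orderOf_eq_one, one_mul]
      have : Commute b z := by rw [hbb]; exact hb2.pow_left _
      rw [this.eq, mul_inv_cancel_right] at hbz
      exact hgne hbz.symm
    · exact absurd ((MulAut.conj b).injective (show MulAut.conj b w = MulAut.conj b z by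
        simp only [MulAut.conj_apply]; rw [e, hbz])) hgne
    · exact e
  have hN : N ≠ ⊤ := fun htop => by
    haveI : (R : Subgroup X).Normal := normalizer_eq_top_iff.1 htop
    have h1 : (R : Subgroup X) ≤ Cfsg.pCore 2 X := CfsgLib.Coprime.le_pCore R.2
    rw [h.twoCore] at h1
    exact h.ne_one (mem_bot.1 (h1 h.mem))
  refine ⟨N, stronglyEmbedded_of_fused h.ord h.mem hN le_normalizer h.closed fun t ht ht2 => ?_⟩
  rcases hlist t ht (by rw [← pow_two, ← ht2, pow_orderOf_eq_one]) with rfl | rfl | rfl | rfl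
  · rw [orderOf_one] at ht2; omega
  · exact ⟨1, one_mem N, by group⟩
  · exact ⟨b⁻¹, inv_mem hbN, by rw [← hbz]; group⟩
  · exact ⟨b⁻¹ * b⁻¹, mul_mem (inv_mem hbN) (inv_mem hbN), by rw [← hbw, ← hbz]; group⟩

/-- With a cyclic subgroup of index two and a noncentral involution, a strongly embedded subgroup or
characteristic two type. -/
theorem maximal_class_case {c : X} (hcR : c ∈ (R : Subgroup X)) (hc : orderOf c * 2 = Nat.card (R : Subgroup X))
    {t : X} (htR : t ∈ (R : Subgroup X)) (ht : t * t = 1) (htc : ¬ ∀ r ∈ (R : Subgroup X), r * t = t * r) :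
    (∃ M : Subgroup X, Cfsg.IsStronglyEmbedded M) ∨ Cfsg.IsCharacteristicTwoType X := by
  classical
  haveI : Fact (Nat.Prime 2) := ⟨Nat.prime_two⟩
  set C := zpowers c with hC
  have hCR : C ≤ (R : Subgroup X) := zpowers_le.2 hcR
  have hrel : C.relIndex (R : Subgroup X) = 2 := by
    have h1 := relIndex_mul_relIndex ⊥ C (R : Subgroup X) bot_le hCR
    rw [relIndex_bot_left, relIndex_bot_left, hC, Nat.card_zpowers, ← hc] at h1
    exact Nat.eq_of_mul_eq_mul_left (orderOf_pos c) h1
  have hmul : ∀ {a b : X}, a ∈ (R : Subgroup X) → b ∈ (R : Subgroup X) → (a * b ∈ C ↔ (a ∈ C ↔ b ∈ C)) := by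
    intro a b ha hb
    have := mul_mem_iff_of_index_two (H := C.subgroupOf (R : Subgroup X)) hrel (a := ⟨a, ha⟩) (b := ⟨b, hb⟩)
    simpa only [mem_subgroupOf, coe_mul] using this
  have hCc : ∀ a ∈ C, ∀ b ∈ C, a * b = b * a := by
    rintro _ ⟨i, rfl⟩ _ ⟨j, rfl⟩
    exact ((Commute.refl c).zpow_zpow i j).eq
  have hzC : z ∈ C := by
    by_contra hzC
    refine htc fun r hr => ?_
    have hgen : ∀ s ∈ (R : Subgroup X), s ∈ C ∨ s * z ∈ C := fun s hs => by
      by_cases hsC : s ∈ C
      · exact Or.inl hsC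
      · exact Or.inr ((hmul hs h.mem).2 (iff_of_false hsC hzC))
    have key : ∀ s ∈ (R : Subgroup X), ∀ d ∈ C, Commute s d := by
      intro s hs d hd
      rcases hgen s hs with h1 | h1
      · exact hCc s h1 d hd
      · have h2 : Commute (s * z) d := hCc _ h1 d hd
        have h3 : Commute z d := (h.commute (hCR hd)).symm
        simpa [mul_assoc, h.sq] using h2.mul_left h3
    rcases hgen t htR with h1 | h1
    · exact key r hr t h1
    · have h2 : Commute r (t * z) := key r hr _ h1
      have h3 : Commute r z := h.commute hr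
      have := h2.mul_right h3
      rwa [mul_assoc, h.sq, mul_one] at this
  have hinv : ∀ a ∈ C, a * a = 1 → a = 1 ∨ a = z := by
    intro a ha ha2
    by_contra hne
    push Not at hne
    haveI : IsCyclic C := inferInstance
    letI := Fintype.ofFinite C
    have h1 := IsCyclic.card_pow_eq_one_le (α := C) (n := 2) two_pos
    have h2 : ({1, ⟨z, hzC⟩, ⟨a, ha⟩} : Finset C) ⊆ Finset.univ.filter fun x => x ^ 2 = 1 := by
      intro x hx
      simp only [Finset.mem_insert, Finset.mem_singleton] at hx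
      rw [Finset.mem_filter]
      refine ⟨Finset.mem_univ _, ?_⟩
      rcases hx with rfl | rfl | rfl
      exacts [one_pow 2, Subtype.ext (by push_cast; rw [pow_two, h.sq]), Subtype.ext (by push_cast; rw [pow_two, ha2])]
    have h3 : ({1, ⟨z, hzC⟩, ⟨a, ha⟩} : Finset C).card = 3 := by
      rw [Finset.card_insert_of_notMem, Finset.card_pair]
      · exact fun e => hne.2 (congrArg Subtype.val e).symm
      · simp only [Finset.mem_insert, Finset.mem_singleton, Subtype.ext_iff, coe_one, not_or]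
        exact ⟨Ne.symm h.ne_one, Ne.symm hne.1⟩
    have := Finset.card_le_card h2
    omega
  -- noncentral involutions lie outside `C` and are fused to `z`
  have hfus : ∀ s ∈ (R : Subgroup X), s * s = 1 → s ≠ 1 → ∃ g : X, g * s * g⁻¹ = z := by
    intro s hs hs2 hs1
    obtain ⟨g, hg⟩ := h.transfer hCR hrel hs2
    rcases hinv _ hg (by rw [show g * s * g⁻¹ * (g * s * g⁻¹) = g * (s * s) * g⁻¹ by group, hs2, mul_one, mul_inv_cancel]) with e | e
    · exact absurd (conj_eq_one_iff.1 e) hs1
    · exact ⟨g, e⟩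
  have htC : t ∉ C := fun htC => htc fun r hr => by
    rcases hinv t htC ht with rfl | rfl
    · rw [mul_one, one_mul]
    · exact h.central r hr
  have ht1 : t ≠ 1 := fun e => htC (e ▸ one_mem C)
  have hfour : ∀ y ∈ C, y * t = t * y → y * y = 1 := by
    intro y hy hyt
    by_contra hy2
    obtain ⟨g, hg⟩ := hfus t htR ht ht1
    obtain ⟨k, hk⟩ := R.2.exists_card_eq
    have hpow : ∃ i, y ^ 2 ^ i = 1 := ⟨k, by
      have h1 := orderOf_dvd_iff_pow_eq_one.1 (Subgroup.orderOf_dvd_natCard _ (hCR hy))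
      rwa [hk] at h1⟩
    have hi := Nat.find_spec hpow
    obtain ⟨i, hfind⟩ : ∃ i, Nat.find hpow = i + 2 := by
      refine ⟨Nat.find hpow - 2, ?_⟩
      have : 2 ≤ Nat.find hpow := by
        by_contra hlt
        interval_cases hq : Nat.find hpow
        · rw [pow_zero, pow_one] at hi
          exact hy2 (by rw [hi, one_mul])
        · rw [pow_one, pow_two] at hi
          exact hy2 hi
      omega
    set e := y ^ 2 ^ i with he
    have hee : e * e = z := by
      have hm : (e * e) * (e * e) = 1 := by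
        rw [he, ← hi, hfind, ← pow_add, ← pow_add]
        congr 1
        ring
      rcases hinv _ (mul_mem (pow_mem hy _) (pow_mem hy _)) hm with e' | e'
      · exfalso
        refine Nat.find_min hpow (m := i + 1) (by omega) ?_
        rw [pow_succ, pow_mul, pow_two]
        exact e'
      · exact e'
    have hR' := h.conj_cent hg (pow_mem (hCR hy) (2 ^ i)) ((show Commute y t from hyt).pow_left _).eq
    have hgz : g * z * g⁻¹ ∈ C := by
      rw [← hee, show g * (e * e) * g⁻¹ = (g * e * g⁻¹) * (g * e * g⁻¹) by group]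
      exact (hmul hR' hR').2 Iff.rfl
    rcases hinv _ hgz (by rw [show g * z * g⁻¹ * (g * z * g⁻¹) = g * (z * z) * g⁻¹ by group, h.sq, mul_one, mul_inv_cancel]) with e' | e'
    · exact h.ne_one (conj_eq_one_iff.1 e')
    · refine htC ?_
      rw [show t = z from (MulAut.conj g).injective (show g * t * g⁻¹ = g * z * g⁻¹ by rw [hg, e'])]
      exact hzC
  -- elements outside `C` are shorter than `c`
  obtain ⟨n, hn⟩ : ∃ n, orderOf c = 2 ^ n := by
    obtain ⟨n, hn⟩ := (R.2.to_le hCR).exists_card_eq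
    exact ⟨n, by rw [← hn, hC, Nat.card_zpowers]⟩
  have htct : t * c * t⁻¹ ∈ C := by
    have h1 : t * c ∉ C := fun hh => htC (((hmul htR hcR).1 hh).2 (mem_zpowers c))
    exact (hmul (mul_mem htR hcR) (inv_mem htR)).2 (iff_of_false h1 fun hh => htC (by simpa using inv_mem hh))
  have hctne : c * t ≠ t * c := by
    intro e
    refine htc fun r hr => ?_
    have hCt : ∀ d ∈ C, Commute d t := by
      rintro _ ⟨i, rfl⟩
      exact (show Commute c t from e).zpow_left i
    by_cases hrC : r ∈ C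
    · exact (hCt r hrC).eq
    · have h1 : r * t ∈ C := (hmul hr htR).2 (iff_of_false hrC htC)
      have h2 := (hCt _ h1).mul_left (Commute.refl t)
      rwa [mul_assoc, ht, mul_one] at h2
  have hout : ∀ y ∈ (R : Subgroup X), y ∉ C → orderOf y < orderOf c := by
    intro y hy hyC
    set a := y * t with ha
    have haC : a ∈ C := (hmul hy htR).2 (iff_of_false hyC htC)
    have hyy : y * y = a * (t * a * t⁻¹) := by
      rw [ha, show y * t * (t * (y * t) * t⁻¹) = y * (t * t) * y by group, ht, mul_one]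
    have hy2C : y * y ∈ C := (hmul hy hy).2 Iff.rfl
    have hcomm : (y * y) * t = t * (y * y) := by
      have hta : t * a * t⁻¹ ∈ C := by
        obtain ⟨i, hi⟩ := mem_zpowers_iff.1 haC
        rw [← hi, ← conj_zpow]
        exact zpow_mem htct i
      have : t * (y * y) * t⁻¹ = y * y := by
        rw [hyy, show t * (a * (t * a * t⁻¹)) * t⁻¹ = (t * a * t⁻¹) * ((t * t) * a * (t * t)⁻¹) by group, ht,
          one_mul, inv_one, mul_one]
        exact hCc _ hta _ haC
      exact (mul_inv_eq_iff_eq_mul.1 this).symm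
    have h4 := hfour _ hy2C hcomm
    have hn1 : 2 ≤ n := by
      by_contra hlt
      have hc2 : c * c = 1 := by
        rw [← pow_two]
        exact orderOf_dvd_iff_pow_eq_one.1 (hn ▸ (Nat.pow_dvd_pow 2 (by omega : n ≤ 1)).trans (by norm_num))
      rcases hinv c (mem_zpowers c) hc2 with e | e
      · exact hctne (by rw [e, one_mul, mul_one])
      · exact hctne (by rw [e]; exact (h.central t htR).symm)
    rcases Nat.eq_or_lt_of_le hn1 with rfl | hn3
    · refine lt_of_le_of_lt (Nat.le_of_dvd two_pos (orderOf_dvd_of_pow_eq_one ?_)) (by rw [hn]; norm_num)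
      rw [pow_two, hyy]
      obtain ⟨i, hi⟩ := mem_zpowers_iff.1 haC
      have hc3 : t * c * t⁻¹ = c⁻¹ := by
        obtain ⟨j, hj⟩ := mem_zpowers_iff.1 htct
        have hj4 : c ^ j = c ^ (j % 4) := by
          rw [← zpow_mod_orderOf, hn]; norm_num
        rw [hj4] at hj
        have hb := Int.emod_nonneg j (show (4 : ℤ) ≠ 0 by norm_num)
        have hb' := Int.emod_lt_of_pos j (show (0 : ℤ) < 4 by norm_num)
        have h40 : c ^ 4 = 1 := by
          have := pow_orderOf_eq_one c
          rwa [hn] at this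
        rcases (show j % 4 = 0 ∨ j % 4 = 1 ∨ j % 4 = 2 ∨ j % 4 = 3 by omega) with e | e | e | e <;> rw [e] at hj
        · rw [zpow_zero] at hj
          exact absurd (by rw [conj_eq_one_iff.1 hj.symm, one_mul, mul_one]) hctne
        · rw [zpow_one] at hj
          exact absurd (mul_inv_eq_iff_eq_mul.1 hj.symm).symm hctne
        · exfalso
          have h5 : (t * c * t⁻¹) ^ 2 = 1 := by
            rw [← hj, show (2 : ℤ) = ((2 : ℕ) : ℤ) from rfl, zpow_natCast, ← pow_mul]
            exact h40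
          rw [conj_pow, conj_eq_one_iff] at h5
          have := orderOf_dvd_of_pow_eq_one h5
          rw [hn] at this
          exact absurd (Nat.le_of_dvd two_pos this) (by norm_num)
        · rw [← hj, show (3 : ℤ) = ((3 : ℕ) : ℤ) from rfl, zpow_natCast, eq_inv_iff_mul_eq_one, ← pow_succ]
          exact h40
      rw [← hi, ← conj_zpow, hc3, inv_zpow', ← zpow_add, add_neg_cancel, zpow_zero]
    · refine lt_of_le_of_lt (Nat.le_of_dvd (by norm_num) (orderOf_dvd_of_pow_eq_one
        (show y ^ 4 = 1 by rw [show y ^ 4 = y ^ 2 * y ^ 2 by rw [← pow_add], pow_two, h4]))) ?_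
      rw [hn]
      exact lt_of_lt_of_le (by norm_num) (Nat.pow_le_pow_right two_pos hn3)
  -- elements of odd order in `C(z)` centralize `R`
  have hodd : ∀ k : X, k * z = z * k → Odd (orderOf k) → ∀ r ∈ (R : Subgroup X), k * r = r * k := by
    intro k hkz hko
    have hkN := h.closed (mem_centralizer_singleton_iff.2 hkz)
    have hconjR : ∀ r ∈ (R : Subgroup X), k * r * k⁻¹ ∈ (R : Subgroup X) :=
      fun r hr => (mem_normalizer_iff.1 hkN r).1 hr
    have hkc : k * c * k⁻¹ ∈ C := by
      by_contra hh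
      have := hout _ (hconjR c hcR) hh
      rw [show k * c * k⁻¹ = MulAut.conj k c from rfl, MulEquiv.orderOf_eq] at this
      omega
    obtain ⟨a, hka⟩ := mem_zpowers_iff.1 hkc
    have hiter : ∀ i : ℕ, k ^ i * c * (k ^ i)⁻¹ = c ^ (a ^ i) := by
      intro i
      induction i with
      | zero => simp
      | succ i ih =>
        rw [show k ^ (i + 1) * c * (k ^ (i + 1))⁻¹ = k ^ i * (k * c * k⁻¹) * (k ^ i)⁻¹ by group, ← hka, ← conj_zpow,
          ih, ← zpow_mul, ← pow_succ]
    have hkc' : k * c = c * k := by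
      have h1 := hiter (orderOf k)
      rw [pow_orderOf_eq_one, one_mul, inv_one, mul_one] at h1
      have h2 : ((a : ZMod (2 ^ n)) ) ^ orderOf k = 1 := by
        have h1' : c ^ (1 : ℤ) = c ^ (a ^ orderOf k) := by rw [zpow_one]; exact h1
        rw [zpow_eq_zpow_iff_modEq, hn, ← ZMod.intCast_eq_intCast_iff] at h1'
        push_cast at h1'
        exact h1'.symm
      have h3 : (a : ZMod (2 ^ n)) = 1 := by
        obtain ⟨v, hv⟩ : IsUnit (a : ZMod (2 ^ n)) := IsUnit.of_pow_eq_one h2 (orderOf_pos k).ne'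
        have hv1 : v ^ orderOf k = 1 := Units.ext (by push_cast; rw [hv, h2])
        have hv2 : orderOf v ∣ Fintype.card (ZMod (2 ^ n))ˣ := orderOf_dvd_card
        rw [ZMod.card_units_eq_totient] at hv2
        have hd : orderOf v = 1 := by
          refine Nat.eq_one_of_dvd_coprimes ?_ (orderOf_dvd_of_pow_eq_one hv1) hv2
          rcases Nat.eq_zero_or_pos n with rfl | hn0
          · simp
          · rw [Nat.totient_prime_pow Nat.prime_two hn0]
            simpa using (Nat.coprime_two_right.2 hko).pow_right _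
        rw [← hv, orderOf_eq_one_iff.1 hd, Units.val_one]
      have h4 : c ^ a = c ^ (1 : ℤ) := by
        rw [zpow_eq_zpow_iff_modEq, hn, ← ZMod.intCast_eq_intCast_iff]
        simpa using h3
      exact mul_inv_eq_iff_eq_mul.1 (by rw [← hka, h4, zpow_one])
    have hkC : ∀ d ∈ C, Commute k d := by
      rintro _ ⟨i, rfl⟩
      exact (show Commute k c from hkc').zpow_right i
    set e := k * t * k⁻¹ * t with he
    have hktC : k * t * k⁻¹ ∉ C := fun hh => htC (by
      have h1 := (hkC _ hh)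
      have : k * t * k⁻¹ = t := by
        have h2 : k * (k * t * k⁻¹) * k⁻¹ = k * t * k⁻¹ := by rw [h1.eq, mul_inv_cancel_right]
        exact (MulAut.conj k).injective h2
      exact this ▸ hh)
    have heC : e ∈ C := (hmul (hconjR t htR) htR).2 (iff_of_false hktC htC)
    have hpow : ∀ i : ℕ, k ^ i * t * (k ^ i)⁻¹ = e ^ i * t := by
      intro i
      induction i with
      | zero => simp
      | succ i ih =>
        rw [show k ^ (i + 1) * t * (k ^ (i + 1))⁻¹ = k ^ i * (k * t * k⁻¹ * (t * t)) * (k ^ i)⁻¹ by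
          rw [ht, mul_one]; group]
        rw [show k * t * k⁻¹ * (t * t) = e * t by rw [he]; group,
          show k ^ i * (e * t) * (k ^ i)⁻¹ = (k ^ i * e * (k ^ i)⁻¹) * (k ^ i * t * (k ^ i)⁻¹) by group, ih,
          ((hkC e heC).pow_left i).eq, mul_inv_cancel_right, ← mul_assoc, ← pow_succ']
    have h1 := hpow (orderOf k)
    rw [pow_orderOf_eq_one, one_mul, inv_one, mul_one] at h1
    have he1 : e = 1 := by
      obtain ⟨i, hi⟩ := (R.2.to_le hCR) ⟨e, heC⟩
      have hei : e ^ 2 ^ i = 1 := by simpa using congrArg Subtype.val hi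
      exact orderOf_eq_one_iff.1 (Nat.eq_one_of_dvd_coprimes ((Nat.coprime_two_right.2 hko).pow_right i)
        (orderOf_dvd_of_pow_eq_one (mul_eq_right.1 h1.symm)) (orderOf_dvd_of_pow_eq_one hei))
    have hkt : Commute k t := by
      refine mul_inv_eq_iff_eq_mul.1 ?_
      calc k * t * k⁻¹ = k * t * k⁻¹ * (t * t) := by rw [ht, mul_one]
        _ = e * t := by rw [he]; group
        _ = t := by rw [he1, one_mul]
    intro r hr
    by_cases hrC : r ∈ C
    · exact (hkC r hrC).eq
    · have h2 := (hkC _ ((hmul hr htR).2 (iff_of_false hrC htC))).mul_right hkt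
      rwa [mul_assoc, ht, mul_one] at h2
  -- the odd part of `C(z)`
  obtain ⟨K, hKz, hKodd, hKmem⟩ : ∃ K : Subgroup X, (∀ k ∈ K, k * z = z * k) ∧ Odd (Nat.card K) ∧
      ∀ k, k * z = z * k → Odd (orderOf k) → k ∈ K := by
    set D := centralizer ({z} : Set X)
    have hRD : (R : Subgroup X) ≤ D := fun r hr => h.mem_cent hr
    let R' := R.subtype hRD
    haveI hn' : (R' : Subgroup D).Normal := by
      rw [Sylow.coe_subtype]
      exact (normal_subgroupOf_iff_le_normalizer hRD).2 h.closed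
    obtain ⟨L, hL⟩ := exists_right_complement'_of_coprime (N := (R' : Subgroup D)) R'.card_coprime_index
    have hLodd : Odd (Nat.card L) := by
      rw [← hL.symm.index_eq_card]
      exact Nat.not_even_iff_odd.1 fun he => R'.not_dvd_index he.two_dvd
    refine ⟨L.map D.subtype, ?_, ?_, fun k hkz hko => ?_⟩
    · rintro _ ⟨l, -, rfl⟩
      exact mem_centralizer_singleton_iff.1 l.2
    · rwa [card_map_of_injective D.subtype_injective]
    · obtain ⟨⟨⟨r, hr⟩, ⟨l, hl⟩⟩, hrl⟩ := hL.2 (⟨k, mem_centralizer_singleton_iff.2 hkz⟩ : D)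
      change r * l = _ at hrl
      have hrR : (r : X) ∈ (R : Subgroup X) := hr
      have hlo : Odd (orderOf (l : X)) := by
        rw [Subgroup.orderOf_coe]
        exact hLodd.of_dvd_nat (Subgroup.orderOf_dvd_natCard L hl)
      have hcomm : Commute r l := Subtype.ext
        (hodd _ (mem_centralizer_singleton_iff.1 l.2) hlo _ hrR).symm
      have hk1 : (r * l) ^ orderOf k = 1 := by
        rw [hrl]
        exact Subtype.ext (by rw [coe_pow]; exact pow_orderOf_eq_one k)
      rw [hcomm.mul_pow] at hk1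
      have hr1 : r ^ orderOf k = 1 := by
        have hb : (R' : Subgroup D) ⊓ L = ⊥ := hL.disjoint.eq_bot
        rw [← mem_bot, ← hb]
        exact mem_inf.2 ⟨Subgroup.pow_mem _ hr _, by rw [mul_eq_one_iff_eq_inv.1 hk1]; exact L.inv_mem (L.pow_mem hl _)⟩
      obtain ⟨i, hi⟩ := R'.2 ⟨r, hr⟩
      have hri : r ^ 2 ^ i = 1 := by simpa using congrArg Subtype.val hi
      have hr0 : r = 1 := orderOf_eq_one_iff.1 (Nat.eq_one_of_dvd_coprimes ((Nat.coprime_two_right.2 hko).pow_right i)
        (orderOf_dvd_of_pow_eq_one hr1) (orderOf_dvd_of_pow_eq_one hri))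
      exact ⟨l, hl, by
        have := congrArg Subtype.val hrl
        rw [hr0, one_mul] at this
        exact this⟩
  have hKo : ∀ k ∈ K, Odd (orderOf k) := fun k hk => hKodd.of_dvd_nat (Subgroup.orderOf_dvd_natCard K hk)
  set M := normalizer (K : Set X) with hM
  have hconj : ∀ {g k : X}, Odd (orderOf k) → g * k * g⁻¹ * z = z * (g * k * g⁻¹) → g * k * g⁻¹ ∈ K := fun {g k} hk hz' =>
    hKmem _ hz' (by rwa [show g * k * g⁻¹ = MulAut.conj g k from rfl, MulEquiv.orderOf_eq])
  have hCM : centralizer ({z} : Set X) ≤ M := fun g hg => mem_normalizer_of_conj_mem fun k hk => by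
    have hgz : Commute g z := mem_centralizer_singleton_iff.1 hg
    exact hconj (hKo k hk) (((hgz.mul_left (hKz k hk)).mul_left hgz.inv_left).eq)
  have hRM : (R : Subgroup X) ≤ M := fun r hr => hCM (h.mem_cent hr)
  have hMfus : ∀ s ∈ (R : Subgroup X), orderOf s = 2 → ∃ m ∈ M, m * s * m⁻¹ = z := by
    intro s hs hs2
    obtain ⟨g, hg⟩ := hfus s hs (by rw [← pow_two, ← hs2, pow_orderOf_eq_one])
      (fun e => by rw [e, orderOf_one] at hs2; omega)
    refine ⟨g, mem_normalizer_of_conj_mem fun k hk => hconj (hKo k hk) ?_, hg⟩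
    conv_lhs => rw [← hg]
    conv_rhs => rw [← hg]
    calc g * k * g⁻¹ * (g * s * g⁻¹) = g * (k * s) * g⁻¹ := by group
      _ = g * (s * k) * g⁻¹ := by rw [hodd k (hKz k hk) (hKo k hk) s hs]
      _ = _ := by group
  by_cases hMtop : M = ⊤
  swap
  · exact Or.inl ⟨M, stronglyEmbedded_of_fused h.ord h.mem hMtop hRM hCM hMfus⟩
  right
  have hKbot : K = ⊥ := by
    haveI : K.Normal := normalizer_eq_top_iff.1 hMtop
    rw [← le_bot_iff, ← h.oddCore]
    exact CfsgLib.Coprime.le_pPrimeCore_of_not_dvd Nat.prime_two fun hd =>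
      Nat.not_even_iff_odd.2 hKodd (even_iff_two_dvd.2 hd)
  have hD2 : IsPGroup 2 (centralizer ({z} : Set X)) := fun x => by
    obtain ⟨a, b, hab, ha, hb, ⟨r, har⟩, hbo⟩ := CfsgLib.CFun.exists_parts (p := 2) (x : X)
    have hbz : b * z = z * b :=
      mem_centralizer_singleton_iff.1 (zpowers_le.2 x.2 hb)
    have hb1 := hKmem b hbz (Nat.coprime_two_right.1 hbo)
    rw [hKbot, mem_bot] at hb1
    refine ⟨r, Subtype.ext ?_⟩
    rw [coe_pow, coe_one, hab, hb1, mul_one, har]
  have hcent : ∀ x : X, orderOf x = 2 → IsPGroup 2 (centralizer ({x} : Set X)) := by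
    intro x hx
    obtain ⟨g, hg⟩ := CfsgLib.Invol.exists_conj_le_sylow (Q := zpowers x)
      (IsPGroup.of_card (n := 1) (by rw [Nat.card_zpowers, hx, pow_one])) R
    obtain ⟨m, -, hm⟩ := hMfus _ (hg x (mem_zpowers x)) (CfsgLib.Invol.invol_conj hx g)
    intro y
    have hy : (m * g) * (y : X) * (m * g)⁻¹ ∈ centralizer ({z} : Set X) := by
      rw [mem_centralizer_singleton_iff, ← hm]
      calc m * g * y * (m * g)⁻¹ * (m * (g * x * g⁻¹) * m⁻¹) = m * g * (y * x) * (m * g)⁻¹ := by group
        _ = m * g * (x * y) * (m * g)⁻¹ := by rw [mem_centralizer_singleton_iff.1 y.2]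
        _ = _ := by group
    obtain ⟨i, hi⟩ := hD2 ⟨_, hy⟩
    have hi' := congrArg Subtype.val hi
    rw [coe_pow, coe_one] at hi'
    change (m * g * (y : X) * (m * g)⁻¹) ^ 2 ^ i = 1 at hi'
    rw [conj_pow, conj_eq_one_iff] at hi'
    exact ⟨i, Subtype.ext (by rw [coe_pow, coe_one]; exact hi')⟩
  refine Cfsg.Agent.S0505.result ?_ (fun x hx => ?_) (fun x hx => ?_)
  · rw [even_iff_two_dvd, ← h.ord]
    exact orderOf_dvd_natCard z
  · haveI := (hcent x hx).isNilpotent
    infer_instance
  · refine Subgroup.eq_bot_of_card_eq _ ?_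
    obtain ⟨i, hi⟩ := ((hcent x hx).to_subgroup (Cfsg.oddCore ↥(centralizer ({x} : Set X)))).exists_card_eq
    have hco := CfsgLib.Coprime.pPrimeCore_coprime (G := ↥(centralizer ({x} : Set X))) Nat.prime_two
    exact Nat.eq_one_of_dvd_coprimes (hco.pow_right i) dvd_rfl (dvd_of_eq hi)

/-- The rank two case. -/
theorem rank_two_case (hr : Cfsg.PRankLE 2 2 X) :
    (∃ M : Subgroup X, Cfsg.IsStronglyEmbedded M) ∨
      (((∃ n : ℕ, 2 ≤ n ∧ Nonempty (↥(R : Subgroup X) ≃* DihedralGroup n)) ∨
          Cfsg.IsQuasiDihedral ↥(R : Subgroup X)) ∧ Cfsg.IsCharacteristicTwoType X) := by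
  classical
  haveI : Fact (Nat.Prime 2) := ⟨Nat.prime_two⟩
  by_cases hall : ∀ t ∈ (R : Subgroup X), t * t = 1 → ∀ r ∈ (R : Subgroup X), r * t = t * r
  · exact Or.inl (h.stronglyEmbedded_of_central hr hall)
  obtain ⟨g, hgR, hgne⟩ := h.exists_fused
  have h1 : ¬ Cfsg.PRankLE 2 1 X := by
    intro h1
    set w := g * z * g⁻¹ with hw
    have hwo : orderOf w = 2 := CfsgLib.Invol.invol_conj h.ord g
    have hK := CfsgLib.Invol.isKleinFour_closure_pair h.ord hwo (Ne.symm hgne) (h.commute hgR).symm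
    have hcm := IsPGroup.commutative_of_card_eq_prime_sq (p := 2) (G := closure ({z, w} : Set X))
      (by rw [hK.card_four]; norm_num)
    have := h1 _ ⟨⟨hcm⟩⟩ fun a ha => by
      rw [pow_two]
      exact congrArg Subtype.val (IsKleinFour.mul_self (⟨a, ha⟩ : closure ({z, w} : Set X)))
    rw [hK.card_four] at this
    norm_num at this
  have hiso : ∀ x : X, ¬ Cfsg.IsIsolatedInvolution x := by
    intro x hx
    have hc := CfsgLib.Invol.eq_of_zcentral_bot (CfsgLib.Invol.zstar hx) h.oddCore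
    haveI : (zpowers x).Normal := ⟨fun m hm k => by
      have h2 : m ∈ center X := zpowers_le.2 hc hm
      rw [mem_center_iff.1 h2 k, mul_inv_cancel_right]
      exact hm⟩
    have h2 : zpowers x ≤ Cfsg.pCore 2 X :=
      CfsgLib.Coprime.le_pCore (IsPGroup.of_card (n := 1) (by rw [Nat.card_zpowers, hx.1, pow_one]))
    rw [h.twoCore, le_bot_iff, zpowers_eq_bot] at h2
    have h3 := hx.1
    rw [h2, orderOf_one] at h3
    omega
  haveI : Fintype (GaloisField 2 4) := Fintype.ofFinite _
  have hF : Fintype.card (GaloisField 2 4) = 16 := by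
    rw [← Nat.card_eq_fintype_card, GaloisField.card 2 4 (by norm_num)]
    norm_num
  obtain ⟨P⟩ : Nonempty (Sylow 2 (Cfsg.PSU 3 (GaloisField 2 4) 4)) := inferInstance
  push Not at hall
  obtain ⟨t, htR, ht, r, hrR, hrt⟩ := hall
  have htc : ¬ ∀ r ∈ (R : Subgroup X), r * t = t * r := fun hh => hrt (hh r hrR)
  have hmc : ((∃ n : ℕ, 2 ≤ n ∧ Nonempty (↥(R : Subgroup X) ≃* DihedralGroup n)) ∨
      Cfsg.IsQuasiDihedral ↥(R : Subgroup X)) →
      (∃ M : Subgroup X, Cfsg.IsStronglyEmbedded M) ∨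
      (((∃ n : ℕ, 2 ≤ n ∧ Nonempty (↥(R : Subgroup X) ≃* DihedralGroup n)) ∨
          Cfsg.IsQuasiDihedral ↥(R : Subgroup X)) ∧ Cfsg.IsCharacteristicTwoType X) := by
    intro hd
    obtain ⟨c, hc⟩ := exists_cyclic_index_two hd
    rw [← Subgroup.orderOf_coe] at hc
    exact (h.maximal_class_case c.2 hc htR ht htc).imp id fun hh => ⟨hd, hh⟩
  rcases CfsgLib.RankTwoFusion.shape_of_group hr h1 hiso R hF P with hd | hq | hw | ⟨n, -, ⟨e⟩⟩ | ⟨⟨e⟩⟩
  · exact hmc (Or.inl hd)
  · exact hmc (Or.inr hq)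
  · exact absurd hw h.not_wreathed
  · exfalso
    exact htc fun r hr => congrArg Subtype.val
      (e.injective (by rw [map_mul, map_mul, mul_comm]) : (⟨r, hr⟩ : ↥(R : Subgroup X)) * ⟨t, htR⟩ = ⟨t, htR⟩ * ⟨r, hr⟩)
  · exfalso
    obtain ⟨-, -, -, hPp, -, ⟨a, -, -, ha1, ha2, -, -⟩, K, -, hK⟩ :=
      Cfsg.Agent.S1141.result (F := GaloisField 2 4) (n := 2) le_rfl (by rw [hF]; norm_num) P
    haveI : Nontrivial (P : Subgroup (Cfsg.PSU 3 (GaloisField 2 4) 4)) := ⟨⟨a, 1, ha1⟩⟩
    haveI := hPp.center_nontrivial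
    obtain ⟨k, hk⟩ := (hPp.to_subgroup (center _)).exists_card_eq
    have hk' : Nat.card (center ↥(P : Subgroup (Cfsg.PSU 3 (GaloisField 2 4) 4))) = 2 ^ k := hk
    clear hk
    have h2c : 2 ∣ Nat.card (center ↥(P : Subgroup (Cfsg.PSU 3 (GaloisField 2 4) 4))) := by
      rcases k with _ | k
      · have := Finite.one_lt_card_iff_nontrivial.2
          (inferInstance : Nontrivial (center ↥(P : Subgroup (Cfsg.PSU 3 (GaloisField 2 4) 4))))
        rw [hk'] at this
        norm_num at this
      · rw [hk']; exact dvd_pow_self 2 (by omega)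
    obtain ⟨⟨d, hd⟩, hdo⟩ := exists_prime_orderOf_dvd_card' 2 h2c
    rw [← Subgroup.orderOf_coe, orderOf_eq_prime_iff, pow_two] at hdo
    set t' : ↥(R : Subgroup X) := ⟨t, htR⟩
    have ht'1 : e t' ≠ 1 := fun e1 => htc fun r _ => by
      have : t = 1 := congrArg Subtype.val (e.injective (e1.trans (map_one e).symm) : t' = 1)
      rw [this, mul_one, one_mul]
    have ht'2 : e t' * e t' = 1 := by rw [← map_mul, show t' * t' = 1 from Subtype.ext ht, map_one]
    obtain ⟨φ, hφ, -⟩ := hK d (e t') hdo.2 hdo.1 ht'1 ht'2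
    refine htc fun r hr => congrArg Subtype.val (e.injective ?_ : (⟨r, hr⟩ : ↥(R : Subgroup X)) * t' = t' * ⟨r, hr⟩)
    rw [map_mul, map_mul, ← hφ]
    obtain ⟨q, hq⟩ := (φ : MulAut ↥(P : Subgroup (Cfsg.PSU 3 (GaloisField 2 4) 4))).surjective (e ⟨r, hr⟩)
    rw [← hq, ← map_mul, ← map_mul, mem_center_iff.1 hd q]

end ClosedCentral

end CfsgLib.ZNGroup
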