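import Cfsg.Agent.S0205
import Cfsg.Agent.Lib.OddConseq.TwoGenCoreEmbedded
import Cfsg.Agent.Lib.JComp.Prelim
import Cfsg.Agent.Lib.Invol.InvolCentralizer
import Cfsg.Agent.Lib.ZNGroup.RankTwoCase
import Cfsg.Agent.Lib.ZNGroup.MaxClass

/-!
# Reduction of a group with two-closed central centralizer to characteristic two type
-/

set_option autoImplicit false
set_option linter.unusedSectionVars false
set_option linter.style.haveILetI false

open Subgroup

namespace CfsgLib.ZNGroup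

universe u

variable {G : Type u} [Group G] [Finite G]

theorem not_componentType
    (hC : ∀ t : G, orderOf t = 2 → Group.IsSolvable ↥(centralizer ({t} : Set G))) : ¬ Cfsg.IsComponentType G := by
  rintro ⟨t, ht, K, -, hperf, hsimp⟩
  haveI := hC t ht
  haveI : Group.IsSolvable (↥(centralizer ({t} : Set G)) ⧸ Cfsg.oddCore ↥(centralizer ({t} : Set G))) :=
    Group.isSolvable_of_surjective (QuotientGroup.mk'_surjective _)
  haveI := hsimp
  haveI : Nontrivial ↥K := by
    obtain ⟨q, r, hqr⟩ := (inferInstance : Nontrivial (↥K ⧸ center ↥K))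
    obtain ⟨a, rfl⟩ := QuotientGroup.mk_surjective q
    obtain ⟨b, rfl⟩ := QuotientGroup.mk_surjective r
    exact ⟨⟨a, b, fun hab => hqr (by rw [hab])⟩⟩
  haveI : Group.IsSolvable ↥K := inferInstance
  have h := Group.IsSolvable.commutator_lt_top_of_nontrivial (G := ↥K)
  rw [hperf.commutator_eq_top] at h
  exact lt_irrefl _ h

/-- Connected four groups and rank at least three: a strongly embedded subgroup or characteristic two type. -/
theorem embedded_or_charTwo (hrank : ¬ Cfsg.PRankLE 2 2 G) (hO : Cfsg.pPrimeCore 2 G = ⊥)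
    (hC : ∀ t : G, orderOf t = 2 → Group.IsSolvable ↥(centralizer ({t} : Set G)))
    (S : Sylow 2 G) (hS : Cfsg.IsFourConnected ↥(S : Subgroup G)) :
    (∃ M : Subgroup G, Cfsg.IsStronglyEmbedded M) ∨ Cfsg.IsCharacteristicTwoType G := by
  by_cases hSE : ∃ M : Subgroup G, Cfsg.IsStronglyEmbedded M
  · exact Or.inl hSE
  · exact Or.inr (CfsgLib.TwoGenCore.isCharacteristicTwoType (fun X _ _ hX => Cfsg.Agent.S0205.result hX)
      (fun H hH => absurd ⟨H, hH⟩ hSE) hrank hO (not_componentType hC) S hS)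

theorem centralizer_omega (S : Sylow 2 G) :
    centralizer (Cfsg.omegaCenterOf (S : Subgroup G) : Set G) =
      centralizer {z : G | z ∈ (S : Subgroup G) ∧ z ^ 2 = 1 ∧ ∀ s ∈ (S : Subgroup G), s * z = z * s} := by
  congr 1
  ext z
  rw [SetLike.mem_coe, CfsgLib.JComp.mem_omegaCenterOf]
  exact ⟨fun h => ⟨h.1, h.2.2, h.2.1⟩, fun h => ⟨h.1, h.2.2, h.2.1⟩⟩

/-- The standing hypotheses. -/
structure Hyp (G : Type u) [Group G] (S : Sylow 2 G) : Prop where
  even : Even (Nat.card G)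
  solvable : ∀ t : G, orderOf t = 2 → Group.IsSolvable ↥(centralizer ({t} : Set G))
  closed : ∀ P : Sylow 2 G, centralizer (Cfsg.omegaCenterOf (P : Subgroup G) : Set G) ≤
    normalizer ((P : Subgroup G) : Set G)
  oddCore : Cfsg.pPrimeCore 2 G = ⊥
  twoCore : Cfsg.pCore 2 G = ⊥

namespace Hyp

variable {S : Sylow 2 G} (h : Hyp G S)
include h

local notation "H" => Cfsg.pResidual 2 G

theorem even_residual : Even (Nat.card ↥H) := by
  haveI : Fact (Nat.Prime 2) := ⟨Nat.prime_two⟩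
  haveI := CfsgLib.Fusion.pResidual_normal (G := G) (p := 2)
  by_contra hodd
  have hle : H ≤ Cfsg.pPrimeCore 2 G :=
    CfsgLib.Coprime.le_pPrimeCore_of_not_dvd Nat.prime_two fun hd => hodd (even_iff_two_dvd.2 hd)
  rw [h.oddCore, le_bot_iff] at hle
  have hG : IsPGroup 2 G := by
    intro g
    obtain ⟨k, hk⟩ := CfsgLib.Fusion.exists_pow_p_mem_pResidual (p := 2) g
    rw [hle, mem_bot] at hk
    exact ⟨k, hk⟩
  have htop : (⊤ : Subgroup G) ≤ Cfsg.pCore 2 G := CfsgLib.Coprime.le_pCore (hG.to_subgroup ⊤)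
  rw [h.twoCore, le_bot_iff] at htop
  have h1 : Nat.card G = 1 := by
    rw [← card_top (G := G), htop, card_bot]
  rcases h.even with ⟨k, hk⟩
  omega

theorem oddCore_residual : Cfsg.pPrimeCore 2 ↥H = ⊥ := by
  haveI := CfsgLib.Fusion.pResidual_normal (G := G) (p := 2)
  have h1 := CfsgLib.Coprime.pPrimeCore_map_subtype_eq Nat.prime_two H
  rw [h.oddCore, bot_inf_eq] at h1
  exact (Subgroup.map_eq_bot_iff_of_injective _ (subtype_injective _)).1 h1

theorem twoCore_residual : Cfsg.pCore 2 ↥H = ⊥ := by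
  haveI : Fact (Nat.Prime 2) := ⟨Nat.prime_two⟩
  haveI := CfsgLib.Fusion.pResidual_normal (G := G) (p := 2)
  have h1 := CfsgLib.Coprime.pCore_map_subtype_eq 2 H
  rw [h.twoCore, bot_inf_eq] at h1
  exact (Subgroup.map_eq_bot_iff_of_injective _ (subtype_injective _)).1 h1

theorem solvable_residual (t : ↥H) (ht : orderOf t = 2) :
    Group.IsSolvable ↥(centralizer ({t} : Set ↥H)) := by
  haveI := h.solvable (t : G) (by rw [Subgroup.orderOf_coe]; exact ht)
  let f : ↥(centralizer ({t} : Set ↥H)) →* ↥(centralizer ({(t : G)} : Set G)) :=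
    { toFun := fun x => ⟨((x : ↥H) : G), mem_centralizer_singleton_iff.2
        (congrArg Subtype.val (mem_centralizer_singleton_iff.1 x.2))⟩
      map_one' := rfl
      map_mul' := fun _ _ => rfl }
  exact Group.isSolvable_of_isSolvable_injective (f := f) fun a b hab =>
    Subtype.ext (Subtype.ext (congrArg (fun w : ↥(centralizer ({(t : G)} : Set G)) => (w : G)) hab :))

theorem mem_omega {x : G} : x ∈ Cfsg.omegaCenterOf (S : Subgroup G) ↔
    x ∈ (S : Subgroup G) ∧ (∀ s ∈ (S : Subgroup G), s * x = x * s) ∧ x ^ 2 = 1 :=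
  CfsgLib.JComp.mem_omegaCenterOf

theorem omega_commute {x y : G} (hx : x ∈ Cfsg.omegaCenterOf (S : Subgroup G))
    (hy : y ∈ Cfsg.omegaCenterOf (S : Subgroup G)) : x * y = y * x :=
  (h.mem_omega.1 hy).2.1 x (h.mem_omega.1 hx).1

/-- The centre of `S` meets `H` in an involution. -/
theorem exists_central : ∃ z : G, z ∈ H ∧ z ∈ Cfsg.omegaCenterOf (S : Subgroup G) ∧ orderOf z = 2 := by
  haveI : Fact (Nat.Prime 2) := ⟨Nat.prime_two⟩
  haveI := CfsgLib.Fusion.pResidual_normal (G := G) (p := 2)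
  have hne : (S : Subgroup G) ⊓ H ≠ ⊥ := by
    obtain ⟨t, htH, ht⟩ := CfsgLib.Invol.exists_invol_mem h.even_residual
    obtain ⟨g, hg⟩ := CfsgLib.Invol.exists_conj_le_sylow (Q := zpowers t)
      (IsPGroup.of_card (n := 1) (by rw [Nat.card_zpowers, ht, pow_one])) S
    intro hbot
    have h1 : g * t * g⁻¹ ∈ (S : Subgroup G) ⊓ H :=
      ⟨hg t (mem_zpowers t), (inferInstance : (H).Normal).conj_mem t htH g⟩
    rw [hbot, mem_bot, conj_eq_one_iff] at h1
    rw [h1, orderOf_one] at ht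
    omega
  have hSn : (S : Subgroup G) ≤ normalizer (((S : Subgroup G) ⊓ H : Subgroup G) : Set G) := fun s hs =>
    mem_normalizer_of_conj_mem fun k hk =>
      ⟨Subgroup.mul_mem _ (Subgroup.mul_mem _ hs hk.1) ((S : Subgroup G).inv_mem hs), (inferInstance : (H).Normal).conj_mem k hk.2 s⟩
  obtain ⟨z, hz, hzo, hzc⟩ := CfsgLib.Invol.exists_fixed_of_normalized (p := 2) S.2
    (S.2.to_le (inf_le_left : (S : Subgroup G) ⊓ H ≤ (S : Subgroup G))) hne hSn
  exact ⟨z, hz.2, h.mem_omega.2 ⟨hz.1, fun s hs => mem_centralizer_singleton_iff.1 (hzc hs),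
    by rw [← hzo, pow_orderOf_eq_one]⟩, hzo⟩

theorem omega_isPGroup : IsPGroup 2 (Cfsg.omegaCenterOf (S : Subgroup G)) :=
  S.2.to_le fun _ hx => (h.mem_omega.1 hx).1

theorem omega_card : Nat.card (Cfsg.omegaCenterOf (S : Subgroup G)) = 2 ∨
    4 ≤ Nat.card (Cfsg.omegaCenterOf (S : Subgroup G)) := by
  haveI : Fact (Nat.Prime 2) := ⟨Nat.prime_two⟩
  obtain ⟨z, -, hz, hzo⟩ := h.exists_central
  obtain ⟨k, hk⟩ := h.omega_isPGroup.exists_card_eq
  have hd : 2 ∣ 2 ^ k := by
    rw [← hk]; exact (dvd_of_eq hzo.symm).trans (Subgroup.orderOf_dvd_natCard _ hz)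
  rcases k with _ | _ | k
  · norm_num at hd
  · exact Or.inl (by rw [hk, pow_one])
  · exact Or.inr (by rw [hk, pow_succ, pow_succ]; nlinarith [Nat.one_le_two_pow (n := k)])

/-- The case of a noncyclic `Ω₁(Z(S))`. -/
theorem large_case (h4 : 4 ≤ Nat.card (Cfsg.omegaCenterOf (S : Subgroup G))) :
    (∃ M : Subgroup ↥H, Cfsg.IsStronglyEmbedded M) ∨
      (Nat.card (Cfsg.omegaCenterOf (S : Subgroup G)) = 4 ∧
        Cfsg.omegaOne 2 ((S : Subgroup G) ⊓ H) = Cfsg.omegaCenterOf (S : Subgroup G)) ∨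
      Cfsg.IsCharacteristicTwoType G := by
  classical
  haveI : Fact (Nat.Prime 2) := ⟨Nat.prime_two⟩
  haveI := CfsgLib.Fusion.pResidual_normal (G := G) (p := 2)
  set Z := Cfsg.omegaCenterOf (S : Subgroup G) with hZ
  by_cases hrank : Cfsg.PRankLE 2 2 G
  · -- every involution of `S` is central
    have hZ4 : Nat.card Z = 4 := le_antisymm
      (hrank Z ⟨⟨fun a b => Subtype.ext (h.omega_commute a.2 b.2)⟩⟩ fun a ha => (h.mem_omega.1 ha).2.2) h4
    have hinv : ∀ x ∈ (S : Subgroup G), x ^ 2 = 1 → x ∈ Z := by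
      intro x hx hx2
      set A := closure ((Z : Set G) ∪ {x}) with hA
      have hgen : ∀ a ∈ (Z : Set G) ∪ {x}, a ^ 2 = 1 ∧ ∀ b ∈ (Z : Set G) ∪ {x}, a * b = b * a := by
        rintro a (ha | rfl)
        · refine ⟨(h.mem_omega.1 ha).2.2, fun b hb => ?_⟩
          rcases hb with hb | rfl
          exacts [h.omega_commute ha hb, ((h.mem_omega.1 ha).2.1 b hx).symm]
        · refine ⟨hx2, fun b hb => ?_⟩
          rcases hb with hb | rfl
          exacts [(h.mem_omega.1 hb).2.1 a hx, rfl]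
      haveI hcm : IsMulCommutative A := Subgroup.isMulCommutative_closure fun a ha => (hgen a ha).2
      have hle := hrank A hcm fun a ha => by
        induction ha using Subgroup.closure_induction with
        | mem y hy => exact (hgen y hy).1
        | one => exact one_pow 2
        | mul a b ha hb e1 e2 =>
          rw [(show Commute a b from congrArg Subtype.val (hcm.is_comm.comm ⟨a, ha⟩ ⟨b, hb⟩)).mul_pow, e1, e2, one_mul]
        | inv a _ e => rw [inv_pow, e, inv_one]
      have heq : Z = A := eq_of_le_of_card_ge (fun y hy => subset_closure (Or.inl hy)) (hle.trans hZ4.ge)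
      rw [heq]
      exact subset_closure (Or.inr rfl)
    have hle : Cfsg.omegaOne 2 ((S : Subgroup G) ⊓ H) ≤ Z :=
      (closure_le _).2 fun x hx => hinv x hx.1.1 hx.2
    by_cases hZH : Z ≤ H
    · exact Or.inr (Or.inl ⟨hZ4, le_antisymm hle fun x hx => subset_closure
        ⟨⟨(h.mem_omega.1 hx).1, hZH hx⟩, (h.mem_omega.1 hx).2.2⟩⟩)
    exfalso
    obtain ⟨z, hzH, hzZ, hzo⟩ := h.exists_central
    -- `z` is the only involution of `S ⊓ H`
    have huniq : ∀ x ∈ (S : Subgroup G) ⊓ H, orderOf x = 2 → x = z := by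
      intro x hx hxo
      have hxZ : x ∈ Z := hinv x hx.1 (by rw [← hxo, pow_orderOf_eq_one])
      have hlt : Nat.card ↥(Z ⊓ H) < 4 := by
        by_contra hge
        push Not at hge
        exact hZH ((eq_of_le_of_card_ge (inf_le_left : Z ⊓ H ≤ Z) (hZ4.trans_le hge)).ge.trans inf_le_right)
      by_contra hxz
      have h3 : ({1, z, x} : Set G) ⊆ ((Z ⊓ H : Subgroup G) : Set G) := by
        rintro y (rfl | rfl | rfl)
        exacts [one_mem _, ⟨hzZ, hzH⟩, ⟨hxZ, hx.2⟩]
      have h5 := Set.ncard_le_ncard h3 (Set.toFinite _)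
      rw [Set.ncard_eq_three.2 ⟨1, z, x, fun e => by rw [← e, orderOf_one] at hzo; omega,
        fun e => by rw [← e, orderOf_one] at hxo; omega, Ne.symm hxz, rfl⟩, ← Nat.card_coe_set_eq] at h5
      obtain ⟨k, hk⟩ := (h.omega_isPGroup.to_le (inf_le_left : Z ⊓ H ≤ Z)).exists_card_eq
      rw [show Nat.card (((Z ⊓ H : Subgroup G) : Set G)) = Nat.card ↥(Z ⊓ H) from rfl, hk] at h5
      rw [hk] at hlt
      rcases k with _ | _ | k
      · omega
      · omega
      · rw [pow_succ, pow_succ] at hlt; nlinarith [Nat.one_le_two_pow (n := k)]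
    obtain ⟨R, hR⟩ := CfsgLib.LS.sylow_inf_normal S H
    let z' : ↥H := ⟨z, hzH⟩
    have hc := CfsgLib.Invol.eq_of_zcentral_bot (CfsgLib.Invol.zcentral_of_unique_invol R (z := z')
      (by rw [← Subgroup.orderOf_coe]; exact hzo) fun x hx hxo => Subtype.ext
        (huniq x (hR ▸ ⟨x, hx, rfl⟩) (by rw [Subgroup.orderOf_coe]; exact hxo))) h.oddCore_residual
    haveI : (zpowers z').Normal := ⟨fun m hm g => by
      have h1 : m ∈ center ↥H := zpowers_le.2 hc hm
      rw [mem_center_iff.1 h1 g, mul_inv_cancel_right]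
      exact hm⟩
    have h2 : zpowers z' ≤ Cfsg.pCore 2 ↥H := CfsgLib.Coprime.le_pCore
      (IsPGroup.of_card (n := 1) (by rw [Nat.card_zpowers, ← Subgroup.orderOf_coe, pow_one]; exact hzo))
    rw [h.twoCore_residual, le_bot_iff, zpowers_eq_bot] at h2
    have h3 : z = 1 := congrArg Subtype.val h2
    rw [h3, orderOf_one] at hzo
    omega
  -- rank at least three: `S` is connected through the central four group
  have hconn : Cfsg.IsFourConnected ↥(S : Subgroup G) := by
    obtain ⟨a, ha, ha1, b, hb, hb1, hba⟩ : ∃ a ∈ Z, a ≠ 1 ∧ ∃ b ∈ Z, b ≠ 1 ∧ b ≠ a := by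
      obtain ⟨a, ha, ha1⟩ := Z.bot_or_exists_ne_one.resolve_left fun e => by rw [e, card_bot] at h4; omega
      refine ⟨a, ha, ha1, ?_⟩
      by_contra hno
      push Not at hno
      have hle : Z ≤ zpowers a := fun y hy => by
        by_cases hy1 : y = 1
        · exact hy1 ▸ one_mem _
        · exact hno y hy hy1 ▸ mem_zpowers a
      have := card_le_of_le hle
      rw [Nat.card_zpowers, orderOf_eq_prime (h.mem_omega.1 ha).2.2 ha1] at this
      omega
    have haS := (h.mem_omega.1 ha).1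
    have hbS := (h.mem_omega.1 hb).1
    have ho : ∀ {x : G} (hx : x ∈ Z), x ≠ 1 → orderOf (⟨x, (h.mem_omega.1 hx).1⟩ : ↥(S : Subgroup G)) = 2 :=
      fun hx hx1 => by rw [← Subgroup.orderOf_coe]; exact orderOf_eq_prime (h.mem_omega.1 hx).2.2 hx1
    have hK := CfsgLib.Invol.isKleinFour_closure_pair (x := (⟨a, haS⟩ : ↥(S : Subgroup G))) (y := ⟨b, hbS⟩)
      (ho ha ha1) (ho hb hb1) (fun e => hba (congrArg Subtype.val e).symm) (Subtype.ext (h.omega_commute ha hb))
    set W := closure ({⟨a, haS⟩, ⟨b, hbS⟩} : Set ↥(S : Subgroup G))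
    have hcen : ∀ w ∈ W, ∀ s : ↥(S : Subgroup G), s * w = w * s := fun w hw s => by
      refine (CfsgLib.Invol.commute_of_mem_closure ?_ hw).eq
      rintro y (rfl | rfl)
      exacts [Subtype.ext ((h.mem_omega.1 ha).2.1 s s.2), Subtype.ext ((h.mem_omega.1 hb).2.1 s s.2)]
    intro U V hU hV
    exact (Relation.ReflTransGen.single ⟨hU, hK, fun u _ w hw => hcen w hw u⟩).tail
      ⟨hK, hV, fun w hw v _ => (hcen w hw v).symm⟩
  rcases embedded_or_charTwo hrank h.oddCore h.solvable S hconn with ⟨M, hM⟩ | hL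
  · exact Or.inl ⟨_, stronglyEmbedded_descend hM H h.even_residual⟩
  · exact Or.inr (Or.inr hL)

/-- The case of a cyclic `Ω₁(Z(S))`. -/
theorem small_case (h2 : Nat.card (Cfsg.omegaCenterOf (S : Subgroup G)) = 2) :
    ∃ (R : Sylow 2 ↥H) (z : ↥H), (R : Subgroup ↥H).map (H).subtype = (S : Subgroup G) ⊓ H ∧ ClosedCentral R z ∧
      Cfsg.omegaCenterOf (S : Subgroup G) ≤ H := by
  haveI : Fact (Nat.Prime 2) := ⟨Nat.prime_two⟩
  haveI := CfsgLib.Fusion.pResidual_normal (G := G) (p := 2)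
  obtain ⟨z, hzH, hzZ, hzo⟩ := h.exists_central
  have hZz : Cfsg.omegaCenterOf (S : Subgroup G) = zpowers z :=
    (eq_of_le_of_card_ge (zpowers_le.2 hzZ) (by rw [h2, Nat.card_zpowers, hzo])).symm
  obtain ⟨R, hR⟩ := CfsgLib.LS.sylow_inf_normal S H
  have hmem : ∀ r : ↥H, r ∈ (R : Subgroup ↥H) ↔ (r : G) ∈ (S : Subgroup G) := fun r => by
    rw [← Subgroup.mem_map_iff_mem (f := (H).subtype) (subtype_injective _) (K := (R : Subgroup ↥H)), hR]
    exact ⟨fun hh => hh.1, fun hh => ⟨hh, r.2⟩⟩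
  refine ⟨R, ⟨z, hzH⟩, hR,
    { ord := by rw [← Subgroup.orderOf_coe]; exact hzo
      mem := (hmem _).2 (h.mem_omega.1 hzZ).1
      central := fun r hr => Subtype.ext ((h.mem_omega.1 hzZ).2.1 r ((hmem r).1 hr))
      closed := fun x hx => mem_normalizer_of_conj_mem fun k hk => (hmem _).2 ?_
      noIndexTwo := no_index_two_of_residual pResidual_self
      oddCore := h.oddCore_residual
      twoCore := h.twoCore_residual }, ?_⟩
  · have hxz : (x : G) ∈ centralizer (Cfsg.omegaCenterOf (S : Subgroup G) : Set G) := by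
      rw [hZz, zpowers_eq_closure, centralizer_closure]
      exact mem_centralizer_singleton_iff.2 (congrArg Subtype.val (mem_centralizer_singleton_iff.1 hx))
    exact (mem_normalizer_iff.1 (h.closed S hxz) k).1 ((hmem k).1 hk)
  · rw [hZz, zpowers_le]; exact hzH

end Hyp

variable {X : Type u} [Group X] [Finite X]

/-- Both ranks together. -/
theorem ClosedCentral.embedded_or_charTwo {R : Sylow 2 X} {z : X} (h : ClosedCentral R z)
    (hC : ∀ t : X, orderOf t = 2 → Group.IsSolvable ↥(centralizer ({t} : Set X))) :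
    (∃ M : Subgroup X, Cfsg.IsStronglyEmbedded M) ∨ (Cfsg.IsCharacteristicTwoType X ∧ (¬ Cfsg.PRankLE 2 2 X ∨
      ((∃ n : ℕ, 2 ≤ n ∧ Nonempty (↥(R : Subgroup X) ≃* DihedralGroup n)) ∨
          Cfsg.IsQuasiDihedral ↥(R : Subgroup X)))) := by
  by_cases hr : Cfsg.PRankLE 2 2 X
  · exact (h.rank_two_case hr).imp id fun hh => ⟨hh.2, Or.inr hh.1⟩
  · exact (CfsgLib.ZNGroup.embedded_or_charTwo hr h.oddCore hC R (h.isFourConnected hr)).imp id
      fun hh => ⟨hh, Or.inl hr⟩

end CfsgLib.ZNGroup
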