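import Cfsg.Agent.Lib.Fusion.SylowCenterModule
import Cfsg.Prelude.Def_CaseTheorems

/-!
# Subgroups shaped like `S₄` or `S₄ × 2` (for the ZN-group structure theorem)
-/

set_option autoImplicit false
set_option linter.unusedSectionVars false
set_option linter.style.haveILetI false

open Subgroup
open scoped commutatorElement

namespace CfsgLib.ZNGroup

abbrev S4 := Equiv.Perm (Fin 4)

/-- The normal four-group of `S₄`. -/
def k4 : Subgroup S4 where
  carrier := {x | x = 1 ∨ (x * x = 1 ∧ ∀ i, x i ≠ i)}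
  one_mem' := Or.inl rfl
  mul_mem' := by
    intro a b ha hb
    revert a b
    simp only [Set.mem_setOf_eq]
    decide +kernel
  inv_mem' := by
    intro a ha
    revert a
    simp only [Set.mem_setOf_eq]
    decide +kernel

instance (x : S4) : Decidable (x ∈ k4) :=
  inferInstanceAs (Decidable (x = 1 ∨ (x * x = 1 ∧ ∀ i, x i ≠ i)))

theorem k4_centralizer : ∀ x : S4, (∀ v ∈ k4, x * v = v * x) ↔ x ∈ k4 := by decide +kernel

theorem k4_sq : ∀ x : S4, x ∈ k4 → x * x = 1 := by decide +kernel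

theorem k4_conj : ∀ x : S4, ∀ v ∈ k4, x * v * x⁻¹ ∈ k4 := by decide +kernel

theorem k4_transitive : ∀ v ∈ k4, ∀ w ∈ k4, v ≠ 1 → w ≠ 1 → ∃ x : S4, x * v * x⁻¹ = w := by
  decide +kernel

theorem k4_transitive_even : ∀ v ∈ k4, ∀ w ∈ k4, v ≠ 1 → w ≠ 1 →
    ∃ x : S4, Equiv.Perm.sign x = 1 ∧ x * v * x⁻¹ = w := by decide +kernel

theorem outside_k4 : ∀ x : S4, x ∉ k4 →
    x ^ 3 = 1 ∨ ∃ y : S4, (x * (y * x * y⁻¹)) ^ 3 = 1 ∧ x * (y * x * y⁻¹) ≠ 1 := by decide +kernel

theorem k4_sign : ∀ x : S4, x ∈ k4 → Equiv.Perm.sign x = 1 := by decide +kernel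

theorem even_invol : ∀ x : S4, x * x = 1 → Equiv.Perm.sign x = 1 → x ∈ k4 := by decide +kernel

theorem k4_commutator : ∀ x y : S4, ⁅x, y⁆ * ⁅x, y⁆ = 1 → ⁅x, y⁆ ∈ k4 := by decide +kernel

theorem k4_is_commutator : ∀ v ∈ k4, ∃ x y : S4, ⁅x, y⁆ = v := by decide +kernel

theorem s4_center : ∀ x : S4, (∀ y : S4, x * y = y * x) → x = 1 := by decide +kernel

theorem alt_gen : ∀ x : S4, Equiv.Perm.sign x = 1 →
    ∃ a b : S4, a ^ 3 = 1 ∧ b ^ 3 = 1 ∧ x = a * b := by decide +kernel

theorem card_k4 : Nat.card k4 = 4 := by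
  rw [Nat.card_eq_fintype_card]
  decide +kernel

theorem card_s4 : Nat.card S4 = 24 := by
  rw [Nat.card_perm, Nat.card_fin]
  rfl

universe u

variable {G : Type u} [Group G] [Finite G]

/-- `P` is the product of an injective image of `S₄` and a central subgroup of order at most two. -/
structure Shape (P : Subgroup G) where
  s : S4 →* G
  c : G
  inj : Function.Injective s
  s_mem : ∀ x, s x ∈ P
  c_mem : c ∈ P
  c_sq : c * c = 1
  c_comm : ∀ x, Commute c (s x)
  c_out : ∀ x, s x = c → c = 1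
  cover : ∀ p ∈ P, ∃ x, p = s x ∨ p = s x * c

variable {P : Subgroup G}

theorem nonempty_shape_of_equiv (e : ↥P ≃* S4) : ∃ h : Shape P, h.c = 1 :=
  ⟨{ s := P.subtype.comp e.symm.toMonoidHom
     c := 1
     inj := P.subtype_injective.comp e.symm.injective
     s_mem := fun x => (e.symm x).2
     c_mem := one_mem P
     c_sq := one_mul 1
     c_comm := fun _ => Commute.one_left _
     c_out := fun _ _ => rfl
     cover := fun p hp => ⟨e ⟨p, hp⟩, Or.inl (by simp)⟩ }, rfl⟩

theorem exists_shape_of_equiv_prod (e : ↥P ≃* S4 × Multiplicative (ZMod 2)) :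
    ∃ h : Shape P, h.c ≠ 1 := by
  have hz : ∀ a : Multiplicative (ZMod 2), a = 1 ∨ a = Multiplicative.ofAdd 1 := by decide
  refine ⟨{ s := P.subtype.comp (e.symm.toMonoidHom.comp (MonoidHom.inl _ _))
            c := P.subtype (e.symm (1, Multiplicative.ofAdd 1))
            inj := fun a b h => by
              have := e.symm.injective (P.subtype_injective h)
              exact congrArg Prod.fst this
            s_mem := fun x => (e.symm (x, 1)).2
            c_mem := (e.symm _).2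
            c_sq := by
              rw [← map_mul, ← map_mul]
              exact (congrArg (fun t => P.subtype (e.symm t)) (show ((1 : S4), Multiplicative.ofAdd (1 : ZMod 2)) *
                (1, Multiplicative.ofAdd 1) = 1 from Prod.ext (one_mul 1) (by decide))).trans (by simp)
            c_comm := fun x => by
              show P.subtype _ * P.subtype (e.symm (x, 1)) = P.subtype (e.symm (x, 1)) * P.subtype _
              rw [← map_mul, ← map_mul, ← map_mul, ← map_mul]
              simp [Prod.mk_mul_mk]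
            c_out := fun x hx => by
              have h2 := congrArg Prod.snd (e.symm.injective (P.subtype_injective hx))
              exact absurd h2 (show (1 : Multiplicative (ZMod 2)) ≠ Multiplicative.ofAdd 1 by decide)
            cover := fun p hp => ⟨(e ⟨p, hp⟩).1, ?_⟩ }, fun h => ?_⟩
  · rcases hz (e ⟨p, hp⟩).2 with h | h
    · left
      show p = P.subtype (e.symm ((e ⟨p, hp⟩).1, 1))
      rw [← h, Prod.mk.eta, MulEquiv.symm_apply_apply]
      rfl
    · right
      show p = P.subtype (e.symm ((e ⟨p, hp⟩).1, 1)) * P.subtype (e.symm (1, Multiplicative.ofAdd 1))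
      rw [← map_mul, ← map_mul, Prod.mk_mul_mk, mul_one, one_mul, ← h, Prod.mk.eta,
        MulEquiv.symm_apply_apply]
      rfl
  · have h1 : P.subtype (e.symm (1, Multiplicative.ofAdd (1 : ZMod 2))) = P.subtype (e.symm 1) := by
      rw [map_one e.symm, map_one P.subtype]; exact h
    exact absurd (congrArg Prod.snd (e.symm.injective (P.subtype_injective h1)))
      (show Multiplicative.ofAdd (1 : ZMod 2) ≠ 1 by decide)

namespace Shape

variable (h : Shape P)

/-- The four-group of a shape. -/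
def V : Subgroup G := k4.map h.s

/-- The centralizer of the four-group in `P`. -/
def E : Subgroup G := P ⊓ centralizer (h.V : Set G)

theorem V_le : h.V ≤ P := by
  rintro _ ⟨x, -, rfl⟩
  exact h.s_mem x

theorem V_sq {v : G} (hv : v ∈ h.V) : v * v = 1 := by
  obtain ⟨x, hx, rfl⟩ := hv
  rw [← map_mul, k4_sq x hx, map_one]

theorem V_comm {v w : G} (hv : v ∈ h.V) (hw : w ∈ h.V) : v * w = w * v := by
  obtain ⟨x, hx, rfl⟩ := hv
  obtain ⟨y, hy, rfl⟩ := hw
  rw [← map_mul, ← map_mul, (k4_centralizer x).2 hx y hy]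

theorem card_V : Nat.card h.V = 4 := (card_map_of_injective h.inj).trans card_k4

theorem V_ne_bot : h.V ≠ ⊥ := fun e => by
  have := h.card_V
  rw [e, Subgroup.card_bot] at this
  omega

theorem isPGroup_V : IsPGroup 2 h.V :=
  CfsgLib.Fusion.isPGroup_of_mem_forall fun v hv => by rw [pow_two]; exact h.V_sq hv

theorem conj_V {p v : G} (hp : p ∈ P) (hv : v ∈ h.V) : p * v * p⁻¹ ∈ h.V := by
  obtain ⟨y, hy, rfl⟩ := hv
  obtain ⟨x, rfl | rfl⟩ := h.cover p hp
  · exact ⟨_, k4_conj x y hy, by rw [map_mul, map_mul, map_inv]⟩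
  · refine ⟨_, k4_conj x y hy, ?_⟩
    rw [map_mul, map_mul, map_inv]
    calc h.s x * h.s y * (h.s x)⁻¹ = h.s x * (h.s y * h.c) * h.c⁻¹ * (h.s x)⁻¹ := by group
      _ = h.s x * (h.c * h.s y) * h.c⁻¹ * (h.s x)⁻¹ := by rw [← (h.c_comm y).eq]
      _ = _ := by group

theorem le_normalizer_V : P ≤ normalizer (h.V : Set G) := fun p hp => by
  refine mem_normalizer_iff.2 fun v => ⟨h.conj_V hp, fun hv => ?_⟩
  have := h.conj_V (inv_mem hp) hv
  rwa [inv_inv, show p⁻¹ * (p * v * p⁻¹) * p = v by group] at this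

theorem V_transitive {v w : G} (hv : v ∈ h.V) (hw : w ∈ h.V) (hv1 : v ≠ 1) (hw1 : w ≠ 1) :
    ∃ p ∈ P, p * v * p⁻¹ = w := by
  obtain ⟨x, hx, rfl⟩ := hv
  obtain ⟨y, hy, rfl⟩ := hw
  obtain ⟨g, hg⟩ := k4_transitive x hx y hy (fun e => hv1 (e ▸ map_one _)) (fun e => hw1 (e ▸ map_one _))
  exact ⟨h.s g, h.s_mem g, by rw [← map_inv, ← map_mul, ← map_mul, hg]⟩

theorem c_mem_E : h.c ∈ h.E := by
  refine mem_inf.2 ⟨h.c_mem, mem_centralizer_iff.2 ?_⟩
  rintro _ ⟨x, -, rfl⟩
  exact (h.c_comm x).eq.symm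

theorem V_le_E : h.V ≤ h.E :=
  le_inf h.V_le fun _ hv => mem_centralizer_iff.2 fun _ hw => h.V_comm hw hv

theorem mem_E {p : G} (hp : p ∈ h.E) : p ∈ h.V ∨ p * h.c ∈ h.V := by
  obtain ⟨hpP, hpc⟩ := mem_inf.1 hp
  have key : ∀ x, h.s x ∈ centralizer (h.V : Set G) → h.s x ∈ h.V := fun x hx => by
    refine ⟨x, (k4_centralizer x).1 fun v hv => h.inj ?_, rfl⟩
    rw [map_mul, map_mul]
    exact (mem_centralizer_iff.1 hx _ ⟨v, hv, rfl⟩).symm
  obtain ⟨x, rfl | rfl⟩ := h.cover p hpP
  · exact Or.inl (key x hpc)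
  · right
    rw [mul_assoc, h.c_sq, mul_one]
    refine key x ?_
    have h2 := mul_mem hpc (inv_mem (mem_inf.1 h.c_mem_E).2)
    rwa [mul_inv_cancel_right] at h2

theorem E_sq {p : G} (hp : p ∈ h.E) : p * p = 1 := by
  have hcomm : p * h.c = h.c * p := by
    obtain ⟨x, rfl | rfl⟩ := h.cover p (mem_inf.1 hp).1
    · exact (h.c_comm x).eq.symm
    · rw [← mul_assoc, (h.c_comm x).eq]
  rcases h.mem_E hp with hv | hv
  · exact h.V_sq hv
  · have := h.V_sq hv
    calc p * p = p * p * (h.c * h.c) := by rw [h.c_sq, mul_one]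
      _ = p * (p * h.c) * h.c := by group
      _ = p * (h.c * p) * h.c := by rw [hcomm]
      _ = (p * h.c) * (p * h.c) := by group
      _ = 1 := this

theorem E_comm {p q : G} (hp : p ∈ h.E) (hq : q ∈ h.E) : p * q = q * p := by
  have h1 := h.E_sq hp
  have h2 := h.E_sq hq
  have h3 := h.E_sq (mul_mem hp hq)
  calc p * q = p * q * ((p * q) * (p * q))⁻¹ := by rw [h3, inv_one, mul_one]
    _ = q⁻¹ * p⁻¹ := by group
    _ = q * p := by rw [inv_eq_of_mul_eq_one_right h1, inv_eq_of_mul_eq_one_right h2]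

theorem isPGroup_E : IsPGroup 2 h.E :=
  CfsgLib.Fusion.isPGroup_of_mem_forall fun v hv => by rw [pow_two]; exact h.E_sq hv

theorem E_ne_bot : h.E ≠ ⊥ := fun e => h.V_ne_bot (le_bot_iff.1 (e ▸ h.V_le_E))

theorem le_normalizer_E : P ≤ normalizer (h.E : Set G) := by
  have key : ∀ p ∈ P, ∀ e ∈ h.E, p * e * p⁻¹ ∈ h.E := fun p hp e he => by
    refine mem_inf.2 ⟨mul_mem (mul_mem hp (mem_inf.1 he).1) (inv_mem hp), mem_centralizer_iff.2 fun v hv => ?_⟩
    have := mem_centralizer_iff.1 (mem_inf.1 he).2 _ (h.conj_V (inv_mem hp) hv)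
    rw [inv_inv] at this
    calc v * (p * e * p⁻¹) = p * ((p⁻¹ * v * p) * e) * p⁻¹ := by group
      _ = p * (e * (p⁻¹ * v * p)) * p⁻¹ := by rw [this]
      _ = _ := by group
  intro p hp
  refine mem_normalizer_iff.2 fun v => ⟨key p hp v, fun hv => ?_⟩
  have := key p⁻¹ (inv_mem hp) _ hv
  rwa [inv_inv, show p⁻¹ * (p * v * p⁻¹) * p = v by group] at this

/-- The four-group consists of the commutators squaring to one. -/
theorem mem_V_iff {v : G} : v ∈ h.V ↔ v * v = 1 ∧ ∃ p ∈ P, ∃ q ∈ P, v = ⁅p, q⁆ := by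
  constructor
  · intro hv
    refine ⟨h.V_sq hv, ?_⟩
    obtain ⟨x, hx, rfl⟩ := hv
    obtain ⟨(a : S4), (b : S4), rfl⟩ := k4_is_commutator x hx
    exact ⟨_, h.s_mem a, _, h.s_mem b, map_commutatorElement _ _ _⟩
  · rintro ⟨hv, p, hp, q, hq, rfl⟩
    have key : ∃ a b : S4, ⁅p, q⁆ = h.s ⁅a, b⁆ := by
      obtain ⟨a, ha⟩ := h.cover p hp
      obtain ⟨b, hb⟩ := h.cover q hq
      refine ⟨a, b, ?_⟩
      have ca := h.c_comm a
      have cb := h.c_comm b
      rw [map_commutatorElement]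
      have hcc : h.c⁻¹ = h.c := inv_eq_of_mul_eq_one_right h.c_sq
      rcases ha with rfl | rfl <;> rcases hb with rfl | rfl <;> simp only [commutatorElement_def]
      · calc h.s a * (h.s b * h.c) * (h.s a)⁻¹ * (h.s b * h.c)⁻¹
            = h.s a * h.s b * (h.c * (h.s a)⁻¹) * h.c⁻¹ * (h.s b)⁻¹ := by group
          _ = h.s a * h.s b * ((h.s a)⁻¹ * h.c) * h.c⁻¹ * (h.s b)⁻¹ := by rw [ca.inv_right.eq]
          _ = _ := by group
      · calc h.s a * h.c * h.s b * (h.s a * h.c)⁻¹ * (h.s b)⁻¹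
            = h.s a * (h.c * h.s b) * h.c⁻¹ * (h.s a)⁻¹ * (h.s b)⁻¹ := by group
          _ = h.s a * (h.s b * h.c) * h.c⁻¹ * (h.s a)⁻¹ * (h.s b)⁻¹ := by rw [cb.eq]
          _ = _ := by group
      · calc h.s a * h.c * (h.s b * h.c) * (h.s a * h.c)⁻¹ * (h.s b * h.c)⁻¹
            = h.s a * (h.c * h.s b) * (h.s a)⁻¹ * h.c⁻¹ * (h.s b)⁻¹ := by group
          _ = h.s a * (h.s b * h.c) * (h.s a)⁻¹ * h.c⁻¹ * (h.s b)⁻¹ := by rw [cb.eq]
          _ = h.s a * h.s b * (h.c * (h.s a)⁻¹) * h.c⁻¹ * (h.s b)⁻¹ := by group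
          _ = h.s a * h.s b * ((h.s a)⁻¹ * h.c) * h.c⁻¹ * (h.s b)⁻¹ := by rw [ca.inv_right.eq]
          _ = _ := by group
    obtain ⟨a, b, e⟩ := key
    refine e ▸ ⟨_, k4_commutator a b (h.inj ?_), rfl⟩
    rw [map_mul, map_one, ← e, hv]

theorem center_eq {g : G} (hg : g ∈ P) (hc : ∀ p ∈ P, g * p = p * g) : g = 1 ∨ g = h.c := by
  obtain ⟨x, hx⟩ := h.cover g hg
  have key : x = 1 := s4_center x fun y => h.inj (by
    rw [map_mul, map_mul]
    have h1 := hc _ (h.s_mem y)
    rcases hx with rfl | rfl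
    · exact h1
    · refine mul_right_cancel (b := h.c) ?_
      calc h.s x * h.s y * h.c = h.s x * (h.s y * h.c) := by group
        _ = h.s x * (h.c * h.s y) := by rw [(h.c_comm y).eq]
        _ = h.s x * h.c * h.s y := by group
        _ = h.s y * (h.s x * h.c) := h1
        _ = _ := by group)
  subst key
  rcases hx with rfl | rfl
  · exact Or.inl (map_one _)
  · exact Or.inr (by rw [map_one, one_mul])

theorem card_eq (hc : h.c ≠ 1) : Nat.card P = 48 := by
  have hout : h.c ∉ h.s.range := fun ⟨x, hx⟩ => hc (h.c_out x hx)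
  have hR : h.s.range ≤ P := by
    rintro _ ⟨x, rfl⟩
    exact h.s_mem x
  have hi : (h.s.range.subgroupOf P).index = 2 := by
    rw [Subgroup.index_eq_two_iff]
    refine ⟨⟨h.c, h.c_mem⟩, fun p => ?_⟩
    rw [mem_subgroupOf, mem_subgroupOf]
    obtain ⟨x, hx⟩ := h.cover p p.2
    rcases hx with hx | hx
    · refine Or.inr ⟨⟨x, hx.symm⟩, fun hm => hout ?_⟩
      have := mul_mem (inv_mem (show (p : G) ∈ h.s.range from ⟨x, hx.symm⟩)) hm
      simpa using this
    · refine Or.inl ⟨⟨x, ?_⟩, fun hm => hout ?_⟩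
      · push_cast
        rw [hx, mul_assoc, h.c_sq, mul_one]
      · have := mul_mem (inv_mem (show h.s x ∈ h.s.range from ⟨x, rfl⟩)) (hx ▸ hm)
        simpa using this
  have h1 := (h.s.range.subgroupOf P).card_mul_index
  rw [hi, Nat.card_congr (subgroupOfEquivOfLe hR).toEquiv,
    ← Nat.card_congr (MonoidHom.ofInjective h.inj).toEquiv, card_s4] at h1
  omega

theorem odd_mem {H : Subgroup G} (hH : ∀ g : G, Odd (orderOf g) → g ∈ H) {x : S4}
    (hx : Equiv.Perm.sign x = 1) : h.s x ∈ H := by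
  obtain ⟨a, b, ha, hb, rfl⟩ := alt_gen x hx
  have key : ∀ a : S4, a ^ 3 = 1 → h.s a ∈ H := fun a ha => hH _ (by
    have hd : orderOf (h.s a) ∣ 3 := orderOf_dvd_of_pow_eq_one (by rw [← map_pow, ha, map_one])
    exact Odd.of_dvd_nat (by decide) hd)
  rw [map_mul]
  exact mul_mem (key a ha) (key b hb)

theorem V_le_of_odd {H : Subgroup G} (hH : ∀ g : G, Odd (orderOf g) → g ∈ H) : h.V ≤ H := by
  rintro _ ⟨x, hx, rfl⟩
  exact h.odd_mem hH (k4_sign x hx)

/-- The part inside a subgroup containing all elements of odd order, when it misses `c`. -/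
theorem inf_equiv {H : Subgroup G} (hH : ∀ g : G, Odd (orderOf g) → g ∈ H) (hc : h.c ∈ H → h.c = 1)
    {a : G} (ha : a ∈ P) (haH : a ∈ H) (ha2 : a * a = 1) (haE : a ∉ h.E) :
    ∃ t : S4 →* G, Function.Injective t ∧ t.range = P ⊓ H ∧
      ∀ y, Equiv.Perm.sign y = 1 → t y = h.s y := by
  have hsgn : ∀ x, h.s x = a ∨ h.s x * h.c = a → Equiv.Perm.sign x = -1 := by
    intro x hx
    rcases Int.units_eq_one_or (Equiv.Perm.sign x) with e | e
    · exfalso
      apply haE
      have hxs : h.s x * h.s x = 1 := by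
        rcases hx with rfl | rfl
        · exact ha2
        · rw [(h.c_comm x).mul_mul_mul_comm, h.c_sq, mul_one] at ha2
          exact ha2
      have hv : h.s x ∈ h.V := ⟨x, even_invol x (h.inj (by rw [map_mul, hxs, map_one])) e, rfl⟩
      rcases hx with rfl | rfl
      · exact h.V_le_E hv
      · exact mul_mem (h.V_le_E hv) h.c_mem_E
    · exact e
  obtain ⟨x₀, hx₀⟩ := h.cover a ha
  have hodd := hsgn x₀ (hx₀.imp Eq.symm Eq.symm)
  -- the twist
  obtain ⟨d, hd, hdc, hdx⟩ : ∃ d : G, d * d = 1 ∧ (∀ y, Commute d (h.s y)) ∧ a = h.s x₀ * d ∧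
      (d = 1 ∨ d = h.c) := by
    rcases hx₀ with rfl | rfl
    · exact ⟨1, one_mul 1, fun _ => Commute.one_left _, (mul_one _).symm, Or.inl rfl⟩
    · exact ⟨h.c, h.c_sq, h.c_comm, rfl, Or.inr rfl⟩
  obtain ⟨hax, hd01⟩ := hdx
  let χ : S4 → G := fun y => if Equiv.Perm.sign y = 1 then 1 else d
  have hχ : ∀ y z, χ (y * z) = χ y * χ z := by
    intro y z
    simp only [χ, map_mul]
    rcases Int.units_eq_one_or (Equiv.Perm.sign y) with e | e <;>
      rcases Int.units_eq_one_or (Equiv.Perm.sign z) with e' | e' <;> simp [e, e', hd]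
  have hχc : ∀ y z, Commute (χ y) (h.s z) := by
    intro y z
    simp only [χ]
    split
    · exact Commute.one_left _
    · exact hdc z
  let t : S4 →* G := MonoidHom.mk' (fun y => h.s y * χ y) fun y z => by
    show h.s (y * z) * χ (y * z) = h.s y * χ y * (h.s z * χ z)
    rw [map_mul, hχ, (hχc y z).mul_mul_mul_comm]
  have hχmem : ∀ y, χ y ∈ P := by
    intro y
    simp only [χ]
    split
    · exact one_mem P
    · rcases hd01 with rfl | rfl
      · exact one_mem P
      · exact h.c_mem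
  refine ⟨t, (injective_iff_map_eq_one t).2 fun y hy => ?_, le_antisymm ?_ ?_, fun y hy => ?_⟩
  · have hy' : h.s y * χ y = 1 := hy
    have hs : h.s y = χ y := by
      rw [eq_inv_of_mul_eq_one_left hy']
      simp only [χ]
      split
      · exact inv_one
      · exact inv_eq_of_mul_eq_one_right hd
    by_cases hsg : Equiv.Perm.sign y = 1
    · rw [show χ y = 1 from if_pos hsg, ← map_one h.s] at hs
      exact h.inj hs
    · rw [show χ y = d from if_neg hsg] at hs
      have : d = 1 := by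
        rcases hd01 with rfl | rfl
        · rfl
        · exact h.c_out y hs
      exact h.inj (by rw [map_one, hs, this])
  · rintro _ ⟨y, rfl⟩
    refine mem_inf.2 ⟨mul_mem (h.s_mem y) (hχmem y), ?_⟩
    rcases Int.units_eq_one_or (Equiv.Perm.sign y) with e | e
    · show h.s y * χ y ∈ H
      rw [show χ y = 1 from if_pos e, mul_one]
      exact h.odd_mem hH e
    · have h1 : Equiv.Perm.sign (y * x₀⁻¹) = 1 := by rw [map_mul, map_inv, e, hodd]; decide
      have h2 := mul_mem (h.odd_mem hH h1) haH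
      show h.s y * χ y ∈ H
      rw [show χ y = d from if_neg (by rw [e]; decide)]
      rwa [hax, ← mul_assoc, ← map_mul, inv_mul_cancel_right] at h2
  · rintro p ⟨hp, hpH⟩
    obtain ⟨y, hy⟩ := h.cover p hp
    have hty : h.s y * χ y ∈ H := by
      rcases Int.units_eq_one_or (Equiv.Perm.sign y) with e | e
      · rw [show χ y = 1 from if_pos e, mul_one]
        exact h.odd_mem hH e
      · have h1 : Equiv.Perm.sign (y * x₀⁻¹) = 1 := by rw [map_mul, map_inv, e, hodd]; decide
        have h2 := mul_mem (h.odd_mem hH h1) haH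
        rw [show χ y = d from if_neg (by rw [e]; decide)]
        rwa [hax, ← mul_assoc, ← map_mul, inv_mul_cancel_right] at h2
    refine ⟨y, ?_⟩
    show h.s y * χ y = p
    have hq : (h.s y * χ y)⁻¹ * p ∈ H := mul_mem (inv_mem hty) hpH
    rw [_root_.mul_inv_rev, mul_assoc] at hq
    have hcase : ∀ r : G, (χ y)⁻¹ * r ∈ H → r = 1 ∨ r = h.c → χ y = r := by
      intro r hr hr'
      have : χ y = 1 ∨ χ y = h.c := by
        simp only [χ]
        split
        · exact Or.inl rfl
        · exact hd01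
      rcases this with hc1 | hc1 <;> rcases hr' with rfl | rfl <;> rw [hc1] at hr ⊢
      · rw [inv_one, one_mul] at hr
        exact (hc hr).symm
      · rw [mul_one] at hr
        exact hc (by simpa using inv_mem hr)
    rcases hy with rfl | rfl
    · rw [inv_mul_cancel] at hq
      rw [hcase 1 hq (Or.inl rfl), mul_one]
    · rw [inv_mul_cancel_left] at hq
      rw [hcase h.c hq (Or.inr rfl)]
  · show h.s y * χ y = h.s y
    rw [show χ y = 1 from if_pos hy, mul_one]

include h in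
theorem card_cases : Nat.card P = 24 ∨ Nat.card P = 48 := by
  by_cases hc : h.c = 1
  · left
    have hP : P = h.s.range := by
      refine le_antisymm (fun p hp => ?_) ?_
      · obtain ⟨x, hx⟩ := h.cover p hp
        exact ⟨x, by rcases hx with rfl | rfl <;> simp [hc]⟩
      · rintro _ ⟨x, rfl⟩
        exact h.s_mem x
    rw [hP, ← Nat.card_congr (MonoidHom.ofInjective h.inj).toEquiv, card_s4]
  · exact Or.inr (h.card_eq hc)

end Shape

end CfsgLib.ZNGroup
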