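import Cfsg.Agent.Lib.ZNGroup.Local
import Cfsg.Agent.Lib.Invol.Wreathed

/-!
# A two-closed centralizer of a central involution excludes wreathed Sylow subgroups
-/

set_option autoImplicit false
set_option linter.unusedSectionVars false
set_option linter.style.haveILetI false

open Subgroup

namespace CfsgLib.ZNGroup

open CfsgLib.Invol (WrFrame)

universe u

variable {X : Type u} [Group X] [Finite X]

theorem ClosedCentral.not_wreathed {R : Sylow 2 X} {z : X} (h : ClosedCentral R z) :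
    ¬ Cfsg.IsWreathed ↥(R : Subgroup X) := by
  classical
  haveI : Fact (Nat.Prime 2) := ⟨Nat.prime_two⟩
  intro hw
  obtain ⟨n, x, y, w, hn, hcard, W⟩ := CfsgLib.Invol.exists_wrFrame hw
  set m : ℤ := (2 : ℤ) ^ (n - 1) with hm
  let z' : (R : Subgroup X) := ⟨z, h.mem⟩
  have hz'2 : z' ^ 2 = 1 := Subtype.ext (by push_cast; rw [pow_two]; exact h.sq)
  have hz'1 : z' ≠ 1 := fun e => h.ne_one (congrArg Subtype.val e)
  -- a central involution is `x ^ m * y ^ m`
  have hzm : ∀ a : (R : Subgroup X), a ∈ center _ → a ^ 2 = 1 → a ≠ 1 → a = x ^ m * y ^ m := by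
    intro a ha ha2 ha1
    obtain ⟨i, rfl⟩ := W.mem_center_iff.1 ha
    obtain ⟨⟨c, rfl⟩, -⟩ := W.rot_sq_eq_one_iff.1 ha2
    rcases Int.even_or_odd c with ⟨d, rfl⟩ | ⟨d, rfl⟩
    · exact absurd ((W.eq_one _ _).2 ⟨⟨d, by ring⟩, ⟨d, by ring⟩⟩) ha1
    · exact W.rot_eq_iff.2 ⟨⟨d, by ring⟩, ⟨d, by ring⟩⟩
  have hz'c : z' ∈ center _ := mem_center_iff.2 fun g => Subtype.ext (h.central g g.2)
  have hz' : z' = x ^ m * y ^ m := hzm z' hz'c hz'2 hz'1
  let A : Subgroup (R : Subgroup X) :=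
    { carrier := {g | ∃ i j : ℤ, g = x ^ i * y ^ j}
      one_mem' := ⟨0, 0, by simp⟩
      mul_mem' := fun {a b} ⟨i, j, ha⟩ ⟨k, l, hb⟩ => ⟨i + k, j + l, by rw [ha, hb, W.mul_rot]⟩
      inv_mem' := fun {a} ⟨i, j, ha⟩ => ⟨-i, -j, by rw [ha, W.rot_inv]⟩ }
  have hout : ∀ {g : (R : Subgroup X)}, g ∉ A → ∃ i j : ℤ, g = x ^ i * y ^ j * w := fun {g} hg => by
    obtain ⟨i, j, e | e⟩ := W.exists_eq g
    · exact absurd ⟨i, j, e⟩ hg
    · exact ⟨i, j, e⟩
  have hwA : w ∉ A := fun ⟨i, j, e⟩ => W.notMem i j e.symm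
  have hAi : A.index = 2 := by
    rw [index_eq_two_iff]
    refine ⟨w, fun b => ?_⟩
    obtain ⟨i, j, rfl | rfl⟩ := W.exists_eq b
    · refine Or.inr ⟨⟨i, j, rfl⟩, fun ⟨k, l, e⟩ => W.rot_ne_out k l i j e.symm⟩
    · refine Or.inl ⟨⟨i, j, by rw [mul_assoc, W.invol, mul_one]⟩, fun ⟨k, l, e⟩ => W.rot_ne_out k l i j e.symm⟩
  have hsq : ∀ g : (R : Subgroup X), g * g ∈ A := fun g => by
    obtain ⟨i, j, rfl | rfl⟩ := W.exists_eq g
    · exact ⟨_, _, W.mul_rot i j i j⟩
    · exact ⟨_, _, W.out_mul_out i j i j⟩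
  -- `A` is the only abelian subgroup of index two
  have huniq : ∀ B : Subgroup (R : Subgroup X), (∀ a ∈ B, ∀ b ∈ B, a * b = b * a) → Nat.card B = Nat.card A → B = A := by
    intro B hBc hBcard
    refine eq_of_le_of_card_ge ?_ hBcard.ge
    by_contra hne
    obtain ⟨b, hb, hbA⟩ := SetLike.not_le_iff_exists.1 hne
    obtain ⟨k, l, rfl⟩ := hout hbA
    haveI := normal_of_index_eq_two hAi
    have hle : A ⊓ B ≤ zpowers (x ^ (1 : ℤ) * y ^ (1 : ℤ)) := by
      rintro g ⟨⟨i, j, rfl⟩, hgB⟩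
      rw [← W.center_eq, W.mem_center_iff]
      exact ⟨i, W.rot_eq_iff.2 ⟨by simp, by
        rw [← dvd_neg, neg_sub]; exact W.rot_out_commute_iff.1 (hBc _ hgB _ hb)⟩⟩
    have hord : orderOf (x ^ (1 : ℤ) * y ^ (1 : ℤ)) = 2 ^ n := W.orderOf_rot fun c => by
      rw [one_mul, and_self_iff, hm]
      push_cast
      rw [← pow_succ', show n - 1 + 1 = n by omega]
    have h1 : Nat.card ↥(A ⊓ B) ≤ 2 ^ n := by
      have := card_le_of_le hle
      rwa [Nat.card_zpowers, hord] at this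
    have h2 := relIndex_mul_relIndex ⊥ (A ⊓ B) B bot_le inf_le_right
    rw [relIndex_bot_left, relIndex_bot_left, inf_relIndex_right] at h2
    have h3 : A.relIndex B ≤ 2 := Nat.le_of_dvd two_pos ((relIndex_dvd_index_of_normal A B).trans (dvd_of_eq hAi))
    have h4 : Nat.card A * 2 = 2 ^ (2 * n + 1) := by
      have := card_mul_index A
      rwa [hAi, hcard] at this
    rw [pow_succ, ← hBcard, ← h2] at h4
    have h5 : 2 ^ (2 * n) ≤ 2 ^ n * 2 := by
      rw [← Nat.eq_of_mul_eq_mul_right two_pos h4]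
      exact Nat.mul_le_mul h1 h3
    rw [← pow_succ] at h5
    have := (Nat.pow_le_pow_iff_right (le_refl 2)).1 h5
    omega
  have hAc : ∀ a ∈ A, ∀ b ∈ A, a * b = b * a := by
    rintro _ ⟨i, j, rfl⟩ _ ⟨k, l, rfl⟩
    exact (W.rot_commute i j k l).eq
  -- an outer involution is not conjugate to `z`
  have hkey : ∀ t : (R : Subgroup X), t ∉ A → t ^ 2 = 1 → ∀ g : X, g * (t : X) * g⁻¹ ≠ z := by
    intro t htA _ g hg
    obtain ⟨q, hq⟩ := W.even
    set e := x ^ q * y ^ q with he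
    have hec : e ∈ center _ := W.mem_center_iff.2 ⟨q, rfl⟩
    have he2 : e * e = z' := by
      rw [hz', he, W.mul_rot, hq, two_mul]
    have heR := h.conj_cent hg e.2 (congrArg Subtype.val (mem_center_iff.1 hec t).symm)
    set c : (R : Subgroup X) := ⟨g * e * g⁻¹, heR⟩
    have hz1 : ((c * c : (R : Subgroup X)) : X) = g * z * g⁻¹ := by
      show g * e * g⁻¹ * (g * e * g⁻¹) = g * z * g⁻¹
      rw [show g * (e : X) * g⁻¹ * (g * e * g⁻¹) = g * ((e : X) * e) * g⁻¹ by group,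
        show ((e : X) * e) = z from congrArg Subtype.val he2]
    have hcc2 : (c * c) ^ 2 = 1 := Subtype.ext (by
      rw [coe_pow, hz1, coe_one, conj_pow, pow_two, h.sq, mul_one, mul_inv_cancel])
    have hcc1 : c * c ≠ 1 := fun e1 => by
      rw [e1] at hz1
      exact h.ne_one (conj_eq_one_iff.1 hz1.symm)
    have hnc : c * c ∉ center _ := fun hcc => by
      have e1 := hzm _ hcc hcc2 hcc1
      rw [← hz'] at e1
      rw [e1] at hz1
      refine htA ?_
      have hgz : g * z * g⁻¹ = z := hz1.symm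
      have : (t : X) = z := (MulAut.conj g).injective (show g * (t : X) * g⁻¹ = g * z * g⁻¹ by rw [hg, hgz])
      rw [show t = z' from Subtype.ext this, hz']
      exact ⟨m, m, rfl⟩
    obtain ⟨i, j, hij⟩ := hsq c
    have hcent : ∀ a ∈ A, a * (c * c) = (c * c) * a := fun a ha => hAc a ha _ (hsq c)
    have hconj : ∀ a : A, g⁻¹ * ((a : (R : Subgroup X)) : X) * g ∈ (R : Subgroup X) := fun a => by
      have := h.conj_cent (t := g * z * g⁻¹) (g := g⁻¹) (by group) (c := ((a : (R : Subgroup X)) : X)) a.1.2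
        (by rw [← hz1]; exact congrArg Subtype.val (hcent a a.2))
      simpa using this
    let f : A →* (R : Subgroup X) :=
      { toFun := fun a => ⟨_, hconj a⟩
        map_one' := Subtype.ext (by simp)
        map_mul' := fun a b => Subtype.ext (by
          show g⁻¹ * (((a * b : A) : (R : Subgroup X)) : X) * g = _ * _
          push_cast
          group) }
    have hf : Function.Injective f := fun a b hab => by
      have h1 : g⁻¹ * ((a : (R : Subgroup X)) : X) * g = g⁻¹ * ((b : (R : Subgroup X)) : X) * g :=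
        congrArg Subtype.val hab
      exact Subtype.ext (Subtype.ext (mul_left_cancel (mul_right_cancel h1)))
    have hrange : f.range = A := huniq _
      (by
        rintro _ ⟨a, rfl⟩ _ ⟨b, rfl⟩
        rw [← map_mul, ← map_mul, show a * b = b * a from Subtype.ext (hAc a a.2 b b.2)])
      (Nat.card_congr (MonoidHom.ofInjective hf).toEquiv).symm
    refine htA (hrange ▸ ⟨⟨z', hz' ▸ ⟨m, m, rfl⟩⟩, Subtype.ext ?_⟩)
    show g⁻¹ * z * g = t
    rw [← hg]; group
  -- the noncentral involutions of `A` are conjugate in `R`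
  have hclass : ∀ a ∈ A, a ^ 2 = 1 → a ∉ center _ → ∀ b ∈ A, b ^ 2 = 1 → b ∉ center _ →
      a = b ∨ w * a * w⁻¹ = b := by
    rintro _ ⟨i, j, rfl⟩ ha hac _ ⟨k, l, rfl⟩ hb hbc
    obtain ⟨⟨a, rfl⟩, ⟨a', rfl⟩⟩ := W.rot_sq_eq_one_iff.1 ha
    obtain ⟨⟨b, rfl⟩, ⟨b', rfl⟩⟩ := W.rot_sq_eq_one_iff.1 hb
    have hodd : ∀ p p' : ℤ, x ^ (m * p) * y ^ (m * p') ∉ center _ → Odd (p - p') := fun p p' hpp => by
      rw [← Int.not_even_iff_odd]
      rintro ⟨d, hd⟩
      exact hpp (W.mem_center_iff.2 ⟨m * p, W.rot_eq_iff.2 ⟨by simp, ⟨-d, by linear_combination (-m) * hd⟩⟩⟩)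
    obtain ⟨d1, hd1⟩ := hodd a a' hac
    obtain ⟨d2, hd2⟩ := hodd b b' hbc
    rcases Int.even_or_odd (a - b) with ⟨d, hd⟩ | ⟨d, hd⟩
    · exact Or.inl (W.rot_eq_iff.2 ⟨⟨d, by linear_combination m * hd⟩,
        ⟨d - d1 + d2, by linear_combination m * hd - m * hd1 + m * hd2⟩⟩)
    · refine Or.inr ?_
      rw [W.z_mul_rot, mul_inv_cancel_right]
      exact W.rot_eq_iff.2 ⟨⟨d - d1, by linear_combination m * hd - m * hd1⟩,
        ⟨d + d2 + 1, by linear_combination m * hd + m * hd2⟩⟩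
  -- `z` is fused in `A`, so the outer involution `w` is fused to it
  obtain ⟨g, hgR, hgne⟩ := h.exists_fused
  set v : (R : Subgroup X) := ⟨g * z * g⁻¹, hgR⟩
  have hv2 : v ^ 2 = 1 := Subtype.ext (by
    push_cast; rw [conj_pow, pow_two, h.sq, mul_one, mul_inv_cancel])
  have hv1 : v ≠ 1 := fun e => h.ne_one (conj_eq_one_iff.1 (congrArg Subtype.val e))
  have hvA : v ∈ A := by
    by_contra hvA
    exact hkey v hvA hv2 g⁻¹ (by show g⁻¹ * (g * z * g⁻¹) * g⁻¹⁻¹ = z; group)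
  have hvc : v ∉ center _ := fun hc => hgne (by
    have := hzm v hc hv2 hv1
    rw [← hz'] at this
    exact congrArg Subtype.val this)
  have hw2 : w ^ 2 = 1 := by rw [pow_two, W.invol]
  have hAR : A.map (R : Subgroup X).subtype ≤ (R : Subgroup X) := map_subtype_le A
  obtain ⟨k, hk⟩ := h.transfer hAR (by rw [relIndex, subgroupOf, comap_map_eq_self_of_injective (subtype_injective _)]; exact hAi)
    (u := (w : X)) (congrArg Subtype.val W.invol)
  obtain ⟨a, ha, hae⟩ := hk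
  change (a : X) = k * (w : X) * k⁻¹ at hae
  have ha2 : a ^ 2 = 1 := Subtype.ext (by
    push_cast; rw [hae, conj_pow, ← coe_pow, hw2, coe_one, mul_one, mul_inv_cancel])
  have ha1 : a ≠ 1 := fun e => hwA (by
    rw [e, coe_one] at hae
    rw [show w = 1 from Subtype.ext (conj_eq_one_iff.1 hae.symm)]
    exact one_mem A)
  by_cases hac : a ∈ center _
  · refine hkey w hwA hw2 k ?_
    rw [← hae, hzm a hac ha2 ha1, ← hz']
  · rcases hclass a ha ha2 hac v hvA hv2 hvc with e | e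
    · refine hkey w hwA hw2 (g⁻¹ * k) ?_
      calc g⁻¹ * k * (w : X) * (g⁻¹ * k)⁻¹ = g⁻¹ * (k * (w : X) * k⁻¹) * g := by group
        _ = g⁻¹ * (g * z * g⁻¹) * g := by rw [← hae, e]
        _ = z := by group
    · refine hkey w hwA hw2 (g⁻¹ * (w : X) * k) ?_
      calc g⁻¹ * (w : X) * k * (w : X) * (g⁻¹ * (w : X) * k)⁻¹ = g⁻¹ * ((w : X) * (k * (w : X) * k⁻¹) * (w : X)⁻¹) * g := by group
        _ = g⁻¹ * ((w * a * w⁻¹ : (R : Subgroup X)) : X) * g := by rw [← hae]; rfl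
        _ = g⁻¹ * (g * z * g⁻¹) * g := by rw [e]
        _ = z := by group

end CfsgLib.ZNGroup
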